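import Mathlib
import Cfsg.Agent.Lib.PresOm.OmLinks
import Cfsg.Agent.Lib.PresSp.Gen2B

/-!
# Two generators for `Ω⁺_{2n}(F)`
-/

set_option autoImplicit false
set_option linter.unusedSectionVars false
set_option linter.unusedSimpArgs false

namespace Cfsg.Agent.Lib.PresOm.TwoGen

open Equiv Matrix Matrix.SpecialLinearGroup
open scoped MatrixGroups commutatorElement
open Cfsg.Agent.Lib.PSL2.Basic Cfsg.Agent.Lib.PresSL.Aut
open Cfsg.Agent.Lib.Steinberg.Family Cfsg.Agent.Lib.Steinberg.LinearStem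
open Cfsg.Agent.Lib.PresSL.Real
open Cfsg.Agent.Lib.PresSp (IsMono WW isMono_WW WW_eq Cz cj_map cj_cj cj_comm' cz_y)
open Cfsg.Agent.Lib.PresSp.Gen2
open Cfsg.Agent.Lib.PresOm.RealOm
open Cfsg.Agent.Lib.PresOm.OmLinks
open Cfsg.Agent.Lib.ChevIso

variable {F : Type*} [Field F]

section Block

variable {ι : Type*} [Fintype ι] [DecidableEq ι]

theorem yy_val {c a b : ι} (hab : a ≠ b) (hca : c ≠ a) (hcb : c ≠ b) (s₀ s₁ : F) :
    ((X ι F).y c a s₀ * (X ι F).y c b s₁ : SpecialLinearGroup ι F).1 =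
      1 + Matrix.single c a s₀ + Matrix.single c b s₁ := by
  rw [X_y hca, X_y hcb]
  show Matrix.transvection c a s₀ * Matrix.transvection c b s₁ = _
  simp only [Matrix.transvection, add_mul, mul_add, one_mul, mul_one]
  have h0 : Matrix.single c a s₀ * Matrix.single c b s₁ = 0 :=
    Matrix.single_mul_single_of_ne _ _ _ _ hca.symm _
  rw [h0]
  abel

theorem yy_val' {c a b : ι} (hab : a ≠ b) (hca : c ≠ a) (hcb : c ≠ b) (s₀ s₁ : F) :
    ((X ι F).y a c s₀ * (X ι F).y b c s₁ : SpecialLinearGroup ι F).1 =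
      1 + Matrix.single a c s₀ + Matrix.single b c s₁ := by
  rw [X_y hca.symm, X_y hcb.symm]
  show Matrix.transvection a c s₀ * Matrix.transvection b c s₁ = _
  simp only [Matrix.transvection, add_mul, mul_add, one_mul, mul_one]
  have h0 : Matrix.single a c s₀ * Matrix.single b c s₁ = 0 :=
    Matrix.single_mul_single_of_ne _ _ _ _ hcb _
  rw [h0]
  abel

/-- The action of a block on a row. -/
theorem N_rho {a b c : ι} (hab : a ≠ b) (hca : c ≠ a) (hcb : c ≠ b) (z : SL(2, F)) (v₀ v₁ : F) :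
    (X ι F).y c a v₀ * (X ι F).y c b v₁ * rho hab z =
      rho hab z * ((X ι F).y c a (v₀ * z.1 0 0 + v₁ * z.1 1 0) * (X ι F).y c b (v₀ * z.1 0 1 + v₁ * z.1 1 1)) := by
  apply Subtype.ext
  show ((X ι F).y c a v₀ * (X ι F).y c b v₁).1 * (rho hab z).1 =
    (rho hab z).1 * ((X ι F).y c a _ * (X ι F).y c b _).1
  rw [yy_val hab hca hcb, yy_val hab hca hcb]
  simp only [add_mul, mul_add, one_mul, mul_one]
  ext i j
  simp only [Matrix.add_apply]
  by_cases hi : i = c
  · subst hi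
    have h1 : (rho hab z).1 i i = 1 := by
      rw [rho_entry]; simp [hca, hcb]
    have h2 : ∀ j, j ≠ i → (rho hab z).1 i j = 0 := by
      intro j hj
      rw [rho_entry]
      simp only [hca, hcb, if_false]
      by_cases h3 : j = a
      · simp [h3]
      · by_cases h4 : j = b
        · simp [h4]
        · simp [h3, h4, hj.symm]
    rw [Matrix.single_mul_apply_same, Matrix.single_mul_apply_same]
    by_cases h3 : j = a
    · subst h3
      rw [Matrix.mul_single_apply_same, Matrix.mul_single_apply_of_ne (hbj := hab), h1]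
      simp [rho_entry, hab, hab.symm] <;> ring
    · by_cases h4 : j = b
      · subst h4
        rw [Matrix.mul_single_apply_same, Matrix.mul_single_apply_of_ne (hbj := hab.symm), h1]
        simp [rho_entry, hab, hab.symm] <;> ring
      · rw [Matrix.mul_single_apply_of_ne (hbj := h3), Matrix.mul_single_apply_of_ne (hbj := h4)]
        simp [rho_entry, hab, hab.symm, h3, h4]
  · rw [Matrix.single_mul_apply_of_ne (h := hi), Matrix.single_mul_apply_of_ne (h := hi)]
    have h2 : (rho hab z).1 i c = 0 := by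
      rw [rho_entry]
      simp only [hca, hcb, if_false]
      simp [hi]
    by_cases h3 : j = a
    · subst h3
      rw [Matrix.mul_single_apply_same, Matrix.mul_single_apply_of_ne (hbj := hab), h2]
      simp
    · by_cases h4 : j = b
      · subst h4
        rw [Matrix.mul_single_apply_same, Matrix.mul_single_apply_of_ne (hbj := hab.symm), h2]
        simp
      · rw [Matrix.mul_single_apply_of_ne (hbj := h3), Matrix.mul_single_apply_of_ne (hbj := h4)]

/-- The action of a block on a column. -/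
theorem P_rho {a b c : ι} (hab : a ≠ b) (hca : c ≠ a) (hcb : c ≠ b) (z : SL(2, F)) (u₀ u₁ : F) :
    rho hab z * ((X ι F).y a c u₀ * (X ι F).y b c u₁) =
      ((X ι F).y a c (z.1 0 0 * u₀ + z.1 0 1 * u₁) * (X ι F).y b c (z.1 1 0 * u₀ + z.1 1 1 * u₁)) * rho hab z := by
  apply Subtype.ext
  show (rho hab z).1 * ((X ι F).y a c _ * (X ι F).y b c _).1 =
    ((X ι F).y a c _ * (X ι F).y b c _).1 * (rho hab z).1
  rw [yy_val' hab hca hcb, yy_val' hab hca hcb]
  simp only [add_mul, mul_add, one_mul, mul_one]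
  ext i j
  simp only [Matrix.add_apply]
  by_cases hi : j = c
  · subst hi
    have h1 : (rho hab z).1 j j = 1 := by
      rw [rho_entry]; simp [hca, hcb]
    rw [Matrix.mul_single_apply_same, Matrix.mul_single_apply_same]
    by_cases h3 : i = a
    · subst h3
      rw [Matrix.single_mul_apply_same, Matrix.single_mul_apply_of_ne (h := hab), h1]
      simp [rho_entry, hab, hab.symm, hca, hcb, hca.symm, hcb.symm] <;> ring
    · by_cases h4 : i = b
      · subst h4
        rw [Matrix.single_mul_apply_same, Matrix.single_mul_apply_of_ne (h := hab.symm), h1]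
        simp [rho_entry, hab, hab.symm, hca, hcb, hca.symm, hcb.symm] <;> ring
      · rw [Matrix.single_mul_apply_of_ne (h := h3), Matrix.single_mul_apply_of_ne (h := h4)]
        simp [rho_entry, h3, h4, hca, hcb, hca.symm, hcb.symm]
  · rw [Matrix.mul_single_apply_of_ne (hbj := hi), Matrix.mul_single_apply_of_ne (hbj := hi)]
    have h2 : (rho hab z).1 c j = 0 := by
      rw [rho_entry]
      simp only [hca, hcb, if_false]
      by_cases h3 : j = a
      · simp [h3]
      · by_cases h4 : j = b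
        · simp [h4]
        · simp [h3, h4, Ne.symm hi]
    by_cases h3 : i = a
    · subst h3
      rw [Matrix.single_mul_apply_same, Matrix.single_mul_apply_of_ne (h := hab), h2]
      simp
    · by_cases h4 : i = b
      · subst h4
        rw [Matrix.single_mul_apply_same, Matrix.single_mul_apply_of_ne (h := hab.symm), h2]
        simp
      · rw [Matrix.single_mul_apply_of_ne (h := h3), Matrix.single_mul_apply_of_ne (h := h4)]

end Block

section Gen

variable {ι : Type*} [Fintype ι] [DecidableEq ι] (H : Subgroup (SpecialLinearGroup ι F))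

theorem y_mono_mem {π : Perm ι} {s : ι → F} {M : SpecialLinearGroup ι F} (h : IsMono π s M)
    (hM : M ∈ H) {i j : ι} (hij : i ≠ j) {t : F} (ht : (X ι F).y i j t ∈ H) :
    (X ι F).y (π i) (π j) t ∈ H := by
  have h1 := cj_mem' hM ht
  rw [h.conj_y hij] at h1
  have h2 : (s i * s j) * (s i * s j) = 1 := by
    calc (s i * s j) * (s i * s j) = (s i * s i) * (s j * s j) := by ring
      _ = 1 := by rw [h.1, h.1, one_mul]
  rcases mul_self_eq_one_iff.mp h2 with h3 | h3
  · rwa [h3, one_mul] at h1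
  · rw [h3, neg_one_mul, (X ι F).y_neg (π.injective.ne hij)] at h1
    simpa using inv_mem h1

/-- All the root elements with parameter one, by rotation. -/
theorem all_y_one {r : ℕ} (H : Subgroup (SpecialLinearGroup (Fin (r + 4)) F))
    {s : Fin (r + 4) → F} {M : SpecialLinearGroup (Fin (r + 4)) F}
    (h : IsMono (finRotate (r + 4)) s M) (hM : M ∈ H) (h01 : (X (Fin (r + 4)) F).y 0 1 1 ∈ H) :
    ∀ i j, i ≠ j → (X (Fin (r + 4)) F).y i j 1 ∈ H := by
  have h10 : (1 : Fin (r + 4)) ≠ 0 := by simp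
  have ne_add : ∀ i c : Fin (r + 4), c ≠ 0 → i ≠ i + c := by
    intro i c hc h
    exact hc (left_eq_add.mp h)
  have hstep : ∀ i : Fin (r + 4), (X (Fin (r + 4)) F).y i (i + 1) 1 ∈ H := by
    intro i
    induction i using Fin.induction with
    | zero => simpa using h01
    | succ a ih =>
      have h2 := y_mono_mem H h hM (i := a.castSucc) (j := a.castSucc + 1)
        (ne_add _ _ h10) ih
      rw [finRotate_apply, finRotate_apply, Fin.coeSucc_eq_succ] at h2
      exact h2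
  have hnext : ∀ c i : Fin (r + 4), c ≠ 0 → c + 1 ≠ 0 → (X (Fin (r + 4)) F).y i (i + c) 1 ∈ H →
      (X (Fin (r + 4)) F).y i (i + c + 1) 1 ∈ H := by
    intro c i hc hc1 h3
    have h4 := hstep (i + c)
    have h5 := (X (Fin (r + 4)) F).comm i (i + c) (i + c + 1)
      (ne_add _ _ hc) (ne_add _ _ h10) (by
        rw [add_assoc]
        exact ne_add _ _ hc1) 1 1
    rw [one_mul] at h5
    rw [← h5]
    exact mul_mem (mul_mem (mul_mem h3 h4) (inv_mem h3)) (inv_mem h4)
  have hall : ∀ c : Fin (r + 4), c ≠ 0 → ∀ i, (X (Fin (r + 4)) F).y i (i + c) 1 ∈ H := by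
    intro c
    induction c using Fin.induction with
    | zero => intro h0; exact absurd rfl h0
    | succ a ih =>
      intro hs i
      rw [← Fin.coeSucc_eq_succ] at hs ⊢
      by_cases ha : a.castSucc = 0
      · rw [ha, zero_add]
        exact hstep i
      · rw [← add_assoc]
        exact hnext _ _ ha hs (ih ha i)
  intro i j hij
  have h6 := hall (j - i) (by simpa [sub_eq_zero] using hij.symm) i
  rwa [add_sub_cancel] at h6

/-- From a whole root subgroup to all of them. -/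
theorem all_y_of_one (h3 : ∀ a b : ι, ∃ c, c ≠ a ∧ c ≠ b)
    (hone : ∀ i j, i ≠ j → (X ι F).y i j 1 ∈ H) {a b : ι} (hab : a ≠ b)
    (hR : ∀ s, (X ι F).y a b s ∈ H) :
    ∀ i j, i ≠ j → ∀ s, (X ι F).y i j s ∈ H := by
  have right : ∀ {a b c : ι}, a ≠ b → c ≠ a → c ≠ b → (∀ s, (X ι F).y a b s ∈ H) →
      ∀ s, (X ι F).y a c s ∈ H := by
    intro a b c hab hca hcb hR s
    have h5 := (X ι F).comm a b c hab hcb.symm hca.symm s 1
    rw [mul_one] at h5
    rw [← h5]
    have h6 := hR s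
    have h7 := hone b c hcb.symm
    exact mul_mem (mul_mem (mul_mem h6 h7) (inv_mem h6)) (inv_mem h7)
  have left : ∀ {a b c : ι}, a ≠ b → c ≠ a → c ≠ b → (∀ s, (X ι F).y a b s ∈ H) →
      ∀ s, (X ι F).y c b s ∈ H := by
    intro a b c hab hca hcb hR s
    have h5 := (X ι F).comm c a b hca hab hcb 1 s
    rw [one_mul] at h5
    rw [← h5]
    have h6 := hR s
    have h7 := hone c a hca
    exact mul_mem (mul_mem (mul_mem h7 h6) (inv_mem h7)) (inv_mem h6)
  intro i j hij
  by_cases hib : i = b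
  · subst hib
    obtain ⟨c, hca, hcb⟩ := h3 a i
    have h8 := right hab hca hcb hR
    have h9 := left hca.symm hab.symm hcb.symm h8
    by_cases hjc : j = c
    · subst hjc
      exact h9
    · exact right hcb.symm hij.symm hjc h9
  · have h8 : ∀ s, (X ι F).y i b s ∈ H := by
      by_cases hia : i = a
      · subst hia
        exact hR
      · exact left hab hia hib hR
    by_cases hjb : j = b
    · subst hjb
      exact h8
    · exact right hib hij.symm hjb h8

theorem mem_of_y (h : ∀ i j, i ≠ j → ∀ s, (X ι F).y i j s ∈ H) (M : SpecialLinearGroup ι F) :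
    M ∈ H := by
  have h1 := Cfsg.Agent.Lib.Linalg.Transvection.closure_transvections (ι := ι) (F := F)
  have h2 : Subgroup.closure {t : SpecialLinearGroup ι F | ∃ (i j : ι) (hij : i ≠ j) (a : F),
      t = SpecialLinearGroup.transvection hij a} ≤ H := by
    rw [Subgroup.closure_le]
    rintro _ ⟨i, j, hij, a, rfl⟩
    have := h i j hij a
    rwa [X_y hij] at this
  exact h2 (by rw [h1]; trivial)

theorem cz_rho {a b o : ι} (hab : a ≠ b) (hoa : o ≠ a) (hob : o ≠ b) (z : SL(2, F)) :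
    Cz o (rho hab z) := by
  constructor
  · intro i
    rw [rho_entry]
    by_cases h1 : i = o
    · subst h1
      simp [hoa, hob]
    · by_cases h2 : i = a
      · simp [h2, hoa, hob, hoa.symm]
      · by_cases h3 : i = b
        · simp [h3, hoa, hob, hab.symm, hob.symm]
        · simp [h1, h2, h3, hoa, hob]
  · intro j
    rw [rho_entry]
    simp only [hoa, hob, if_false]
    by_cases h2 : j = a
    · simp [h2, hoa.symm]
    · by_cases h3 : j = b
      · simp [h3, hob.symm]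
      · by_cases h1 : j = o
        · simp [h1, hoa, hob]
        · simp [h2, h3, h1, Ne.symm h1]

end Gen

section Real

variable {r : ℕ}

local notation "Ipn" => OmegaPlus.Ip (r + 4)

theorem cj_rr_Y {a : Fin (r + 4)} {u v u' v' : Ipn} (hu : sg a u = u') (hv : sg a v = v')
    (h : OmegaPlus.Valid u v) (h' : OmegaPlus.Valid u' v') (t : F) :
    cj (rr a) (OmegaPlus.Y h t) = OmegaPlus.Y h' t := by
  rw [rr, cj_Fl_Y (sg_swap a) h t]
  exact Y_cong hu hv _ _ t

/-- The long root `SL₂` not in the Levi subgroup. -/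
noncomputable def rhoM : SL(2, F) →* GL Ipn F := cjHom (rr 1) (lv.comp (rho n01))

theorem rhoM_apply (z : SL(2, F)) : (rhoM z : GL Ipn F) = cj (rr 1) (lv (rho n01 z)) := rfl

theorem v01 : OmegaPlus.Valid (.inl 0 : Ipn) (.inr 1) := OmegaPlus.valid_of_ind_ne n01

theorem v10 : OmegaPlus.Valid (.inr 1 : Ipn) (.inl 0) := v01.symm

theorem rhoM_x (t : F) : (rhoM (x t) : GL Ipn F) = OmegaPlus.Y v01 t := by
  rw [rhoM_apply, rho_x, lv_y n01 (valid_ll n01)]
  exact cj_rr_Y (sg_inl_ne n01) (sg_inl_same 1) _ _ t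

theorem rhoM_y (t : F) : (rhoM (y t) : GL Ipn F) = OmegaPlus.Y v10 t := by
  rw [rhoM_apply, rho_y, lv_y n01.symm (valid_ll n01.symm)]
  exact cj_rr_Y (sg_inl_same 1) (sg_inl_ne n01) _ _ t

theorem rhoM_mem (z : SL(2, F)) : (rhoM z : GL Ipn F) ∈ OmegaPlus.Om' (r + 4) F := by
  have := Cfsg.Agent.Lib.Linalg.Quad.FieldGen.mem_of_x_y ((OmegaPlus.Om' (r + 4) F).comap rhoM)
    (fun t => ?_) (fun t => ?_) z
  · exact this
  · show (rhoM (x t) : GL Ipn F) ∈ OmegaPlus.Om' (r + 4) F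
    rw [rhoM_x]
    exact OmegaPlus.Y_mem _ _
  · show (rhoM (y t) : GL Ipn F) ∈ OmegaPlus.Om' (r + 4) F
    rw [rhoM_y]
    exact OmegaPlus.Y_mem _ _

theorem comm_rhoM {A : GL Ipn F} (hx : ∀ t, A * OmegaPlus.Y v01 t = OmegaPlus.Y v01 t * A)
    (hy : ∀ t, A * OmegaPlus.Y v10 t = OmegaPlus.Y v10 t * A) (z : SL(2, F)) :
    A * rhoM z = rhoM z * A := by
  have := Cfsg.Agent.Lib.Linalg.Quad.FieldGen.mem_of_x_y ((Subgroup.centralizer {A}).comap rhoM)
    (fun t => ?_) (fun t => ?_) z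
  · exact Subgroup.mem_centralizer_iff.1 this A rfl
  · show (rhoM (x t) : GL Ipn F) ∈ Subgroup.centralizer {A}
    rw [Subgroup.mem_centralizer_iff]
    rintro _ rfl
    rw [rhoM_x]
    exact hx t
  · show (rhoM (y t) : GL Ipn F) ∈ Subgroup.centralizer {A}
    rw [Subgroup.mem_centralizer_iff]
    rintro _ rfl
    rw [rhoM_y]
    exact hy t

/-- The torus part. -/
theorem rhoM_T_comm (z d : SL(2, F)) :
    (rhoM z : GL Ipn F) * lv (rho n23 d) = lv (rho n23 d) * rhoM z := by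
  have h1 : cj (rr 1 : GL Ipn F) (lv (rho n23 d)) = lv (rho n23 d) :=
    cj_of_comm (rr_cz (cz_rho n23 n12 n13 d))
  have h2 : (lv (rho n01 z) : GL Ipn F) * lv (rho n23 d) = lv (rho n23 d) * lv (rho n01 z) := by
    rw [← map_mul, ← map_mul, rho_cz_comm n01 (cz_rho n23 n02 n03 d) (cz_rho n23 n12 n13 d) z]
  have h3 := cj_comm' (d := (rr 1 : GL Ipn F)) h2
  rwa [h1] at h3

/-- The root element. -/
theorem y01_comm_rhoM (s : F) (z : SL(2, F)) :
    (OmegaPlus.Y (valid_ll n01) s : GL Ipn F) * rhoM z = rhoM z * OmegaPlus.Y (valid_ll n01) s := by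
  refine comm_rhoM (fun t => Y_comm_of _ _ ?_ _ _) (fun t => Y_comm_of _ _ ?_ _ _) z
  · have n1 : (.inl 0 : Ipn) ≠ .inr 0 := by simp
    have n2 : (.inl 0 : Ipn) ≠ .inl 1 := by simp [n01]
    have n3 : (.inl 0 : Ipn) ≠ .inr 1 := by simp
    have n4 : (.inl 1 : Ipn) ≠ .inr 0 := by simp
    have n5 : (.inl 1 : Ipn) ≠ .inr 1 := by simp
    have n6 : (.inr 0 : Ipn) ≠ .inr 1 := by simp [n01]
    simp only [OmegaPlus.bM, Sum.swap_inl, Sum.swap_inr, sub_mul, mul_sub, Matrix.single_mul_single_same,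
      Matrix.single_mul_single_of_ne, n1, n2, n3, n4, n5, n6, n1.symm, n2.symm, n3.symm, n4.symm, n5.symm, n6.symm,
      ne_eq, not_false_eq_true, one_mul, sub_zero, zero_sub, neg_zero]
  · have n1 : (.inl 0 : Ipn) ≠ .inr 0 := by simp
    have n2 : (.inl 0 : Ipn) ≠ .inl 1 := by simp [n01]
    have n3 : (.inl 0 : Ipn) ≠ .inr 1 := by simp
    have n4 : (.inl 1 : Ipn) ≠ .inr 0 := by simp
    have n5 : (.inl 1 : Ipn) ≠ .inr 1 := by simp
    have n6 : (.inr 0 : Ipn) ≠ .inr 1 := by simp [n01]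
    simp only [OmegaPlus.bM, Sum.swap_inl, Sum.swap_inr, sub_mul, mul_sub, Matrix.single_mul_single_same,
      Matrix.single_mul_single_of_ne, n1, n2, n3, n4, n5, n6, n1.symm, n2.symm, n3.symm, n4.symm, n5.symm, n6.symm,
      ne_eq, not_false_eq_true, one_mul, sub_zero, zero_sub, neg_zero, sub_neg_eq_add, neg_neg, zero_add]

theorem y01_comm_T (s : F) (d : SL(2, F)) :
    (OmegaPlus.Y (valid_ll n01) s : GL Ipn F) * lv (rho n23 d) =
      lv (rho n23 d) * OmegaPlus.Y (valid_ll n01) s := by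
  rw [← lv_y n01 (valid_ll n01), ← map_mul, ← map_mul,
    y_cz_comm n01 (cz_rho n23 n02 n03 d) (cz_rho n23 n12 n13 d)]

/-- The choice of the element of `SL₂`. -/
theorem exists_g [Fintype F] (ζ : Fˣ) (hζ : ∀ u : Fˣ, ∃ k : ℕ, u = ζ ^ k) :
    ∃ (g : SL(2, F)) (e e₂ : ℕ), g ^ e = 1 ∧ (dd ζ) ^ e = 1 ∧ (e₂ : F) = 0 ∧ e.Coprime e₂ ∧
      g.1 0 1 ≠ 0 ∧ g.1 1 0 ≠ 0 := by
  classical
  have hpow : ∀ k : ℕ, (dd ζ : SL(2, F)) ^ k = dd (ζ ^ k) := by
    intro k
    have : (dd ζ : SL(2, F)) ^ k = ddHom (ζ ^ k) := by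
      rw [map_pow]
      rfl
    rw [this]
    rfl
  by_cases h2 : (ζ : F) ^ 2 = 1
  · have hsmall : ∀ s : F, s = 0 ∨ s = 1 ∨ s = -1 := by
      intro s
      by_cases hs : s = 0
      · exact Or.inl hs
      · right
        obtain ⟨k, hk⟩ := hζ (Units.mk0 s hs)
        have h1 := congrArg Units.val hk
        simp only [Units.val_mk0, Units.val_pow_eq_pow_val] at h1
        have h2' : s * s = 1 := by
          rw [h1, ← mul_pow, ← sq, h2, one_pow]
        exact mul_self_eq_one_iff.mp h2'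
    have h01 : ((y 1 * x 1 : SL(2, F))).1 0 1 ≠ 0 := by simp
    have h10 : ((y 1 * x 1 : SL(2, F))).1 1 0 ≠ 0 := by simp
    rcases hsmall 2 with h | h | h
    · refine ⟨y 1 * x 1, 3, 2, gB_three h, ?_, ?_, by norm_num, h01, h10⟩
      · rw [hpow]
        have h3 : ζ ^ 3 = 1 := by
          apply Units.ext
          simp only [Units.val_pow_eq_pow_val, Units.val_one]
          have h4 : ((ζ : F) + 1) ^ 2 = 0 := by
            linear_combination h2 + ((ζ : F) + 1) * h
          have h5 : (ζ : F) = -1 := by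
            have := pow_eq_zero_iff (two_ne_zero) |>.1 h4
            linear_combination this
          rw [h5]
          linear_combination (-1 : F) * h
        rw [h3]
        exact dd_one
      · simpa using h
    · exfalso
      have : (1 : F) = 0 := by linear_combination h
      exact one_ne_zero this
    · have h3 : (3 : F) = 0 := by linear_combination h
      refine ⟨y 1 * x 1, 4, 3, gB_four h3, ?_, ?_, by norm_num, h01, h10⟩
      · rw [hpow]
        have h4 : ζ ^ 4 = 1 := by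
          apply Units.ext
          simp only [Units.val_pow_eq_pow_val, Units.val_one]
          linear_combination ((ζ : F) ^ 2 + 1) * h2
        rw [h4]
        exact dd_one
      · simpa using h3
  · have hz : (ζ : F) ≠ 0 := ζ.ne_zero
    have hz1 : (ζ : F) + 1 ≠ 0 := by
      intro h
      apply h2
      have : (ζ : F) = -1 := by linear_combination h
      rw [this]
      ring
    have hz2 : (ζ : F)⁻¹ - ζ ≠ 0 := by
      intro h
      apply h2
      field_simp at h
      linear_combination -h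
    have hd : (dd ζ : SL(2, F)) ^ (Fintype.card F - 1) = 1 := by
      rw [hpow]
      have h4 : ζ ^ (Fintype.card F - 1) = 1 := by
        rw [← Fintype.card_units]
        exact pow_card_eq_one
      rw [h4]
      exact dd_one
    refine ⟨(y (ζ : F) * x 1) * dd ζ * (y (ζ : F) * x 1)⁻¹, Fintype.card F - 1, ringChar F, ?_, hd,
      CharP.cast_eq_zero F _, coprime_card, ?_, ?_⟩
    · rw [conj_pow, hd]
      group
    · have : ((y (ζ : F) * x 1) * dd ζ * (y (ζ : F) * x 1)⁻¹ : SL(2, F)).1 0 1 = (ζ : F)⁻¹ - ζ := by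
        simp
        ring
      rw [this]
      exact hz2
    · have : ((y (ζ : F) * x 1) * dd ζ * (y (ζ : F) * x 1)⁻¹ : SL(2, F)).1 1 0 =
          (ζ : F) * (ζ + 1) * (ζ - (ζ : F)⁻¹) := by
        simp
        field_simp
        ring
      rw [this]
      refine mul_ne_zero (mul_ne_zero hz hz1) ?_
      intro h
      apply hz2
      linear_combination -h

theorem Y_move_mem (H : Subgroup (GL Ipn F)) {g : GL Ipn F} {π : Ipn ≃ Ipn} {c : Ipn → F}
    (hg : OmegaPlus.IsMono g π c) (hgH : g ∈ H) {u v : Ipn} (h : OmegaPlus.Valid u v)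
    (hall : ∀ t, OmegaPlus.Y h t ∈ H) (t : F) : OmegaPlus.Y (hg.valid h) t ∈ H := by
  have h1 := hg.mul_Y h (c v / c u * t)
  have hu := hg.cne u
  have hv := hg.cne v
  have e : c u / c v * (c v / c u * t) = t := by field_simp
  rw [e] at h1
  have h2 : OmegaPlus.Y (hg.valid h) t = g * OmegaPlus.Y h (c v / c u * t) * g⁻¹ := by
    rw [h1, mul_inv_cancel_right]
  rw [h2]
  exact mul_mem (mul_mem hgH (hall _)) (inv_mem hgH)

theorem v1i : OmegaPlus.Valid (.inr 1 : Ipn) (.inl (i2 r)) := OmegaPlus.valid_of_ind_ne n12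

theorem vi1 : OmegaPlus.Valid (.inl (i2 r) : Ipn) (.inr 1) := (v1i (r := r)).symm

/-- The final step. -/
theorem top_of_mixed (H : Subgroup (GL Ipn F)) (hlv : ∀ M, (lv M : GL Ipn F) ∈ H)
    (hA : ∀ t, OmegaPlus.Y (v1i (r := r)) t ∈ H) (hB : ∀ t, OmegaPlus.Y (vi1 (r := r)) t ∈ H) :
    OmegaPlus.Om' (r + 4) F ≤ H := by
  rw [OmegaPlus.Om', Subgroup.closure_le]
  rintro _ ⟨u, v, h, t, rfl⟩
  rcases u with i | i <;> rcases v with j | j
  · have hij : i ≠ j := fun e => h.ne1 (by rw [e])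
    rw [← lv_y hij h]
    exact hlv _
  · have hij : i ≠ j := fun e => h.ne2 (by rw [e]; rfl)
    obtain ⟨π, s, M, hM, h1, h2⟩ := Cfsg.Agent.Lib.PresSp.exists_mono (F := F) n12.symm hij
    have hm := isMono_lv hM
    have := Y_move_mem H hm (hlv M) vi1 hB t
    refine (Y_cong ?_ ?_ _ h t) ▸ this
    · show Sum.inl (π (i2 r)) = _
      rw [h1]
    · show Sum.inr (π 1) = _
      rw [h2]
  · have hij : i ≠ j := fun e => h.ne2 (by rw [e]; rfl)
    obtain ⟨π, s, M, hM, h1, h2⟩ := Cfsg.Agent.Lib.PresSp.exists_mono (F := F) n12 hij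
    have hm := isMono_lv hM
    have := Y_move_mem H hm (hlv M) v1i hA t
    refine (Y_cong ?_ ?_ _ h t) ▸ this
    · show Sum.inr (π 1) = _
      rw [h1]
    · show Sum.inl (π (i2 r)) = _
      rw [h2]
  · have hij : i ≠ j := fun e => h.ne1 (by rw [e])
    rw [Y_bar h t]
    have h3 := hlv ((X (Fin (r + 4)) F).y j i (-t))
    rwa [lv_y hij.symm (valid_ll hij.symm)] at h3

theorem cj_rr_y0 (s : F) :
    cj (rr 1 : GL Ipn F) (lv ((X (Fin (r + 4)) F).y 0 (i2 r) s)) = lv ((X (Fin (r + 4)) F).y 0 (i2 r) s) :=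
  cj_of_comm (rr_cz (cz_y n01 n12.symm n02 s))

theorem cj_rr_y0' (s : F) :
    cj (rr 1 : GL Ipn F) (lv ((X (Fin (r + 4)) F).y (i2 r) 0 s)) = lv ((X (Fin (r + 4)) F).y (i2 r) 0 s) :=
  cj_of_comm (rr_cz (cz_y n12.symm n01 n02.symm s))

theorem cj_rr_y1 (s : F) :
    cj (rr 1 : GL Ipn F) (lv ((X (Fin (r + 4)) F).y 1 (i2 r) s)) = OmegaPlus.Y (v1i (r := r)) s := by
  rw [lv_y n12 (valid_ll n12)]
  exact cj_rr_Y (sg_inl_same 1) (sg_inl_ne n12.symm) _ _ s

theorem cj_rr_y1' (s : F) :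
    cj (rr 1 : GL Ipn F) (lv ((X (Fin (r + 4)) F).y (i2 r) 1 s)) = OmegaPlus.Y (vi1 (r := r)) s := by
  rw [lv_y n12.symm (valid_ll n12.symm)]
  exact cj_rr_Y (sg_inl_ne n12.symm) (sg_inl_same 1) _ _ s

theorem mix_A (z : SL(2, F)) (t : F) :
    (rhoM z : GL Ipn F) * lv ((X (Fin (r + 4)) F).y 0 (i2 r) t) =
      (lv ((X (Fin (r + 4)) F).y 0 (i2 r) (z.1 0 0 * t)) * OmegaPlus.Y (v1i (r := r)) (z.1 1 0 * t)) * rhoM z := by
  have h1 := P_rho (n01 (r := r)) n02.symm n12.symm z t 0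
  rw [(X (Fin (r + 4)) F).y_zero n12, mul_one, mul_zero, add_zero, mul_zero, add_zero] at h1
  have h2 := congrArg (fun A => cj (rr 1 : GL Ipn F) (lv A)) h1
  simp only [map_mul, cj_mul, cj_rr_y0, cj_rr_y1] at h2
  exact h2

theorem mix_B (z : SL(2, F)) (t : F) :
    lv ((X (Fin (r + 4)) F).y (i2 r) 0 t) * (rhoM z : GL Ipn F) =
      rhoM z * (lv ((X (Fin (r + 4)) F).y (i2 r) 0 (t * z.1 0 0)) * OmegaPlus.Y (vi1 (r := r)) (t * z.1 0 1)) := by
  have h1 := N_rho (n01 (r := r)) n02.symm n12.symm z t 0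
  rw [(X (Fin (r + 4)) F).y_zero n12.symm, mul_one, zero_mul, add_zero, zero_mul, add_zero] at h1
  have h2 := congrArg (fun A => cj (rr 1 : GL Ipn F) (lv A)) h1
  simp only [map_mul, cj_mul, cj_rr_y0', cj_rr_y1'] at h2
  exact h2

/-- The action of the torus part. -/
theorem cj_c_y (g : SL(2, F)) (ζ : Fˣ) (s : F) :
    cj ((rhoM g : GL Ipn F) * lv (rho n23 (dd ζ))) (lv ((X (Fin (r + 4)) F).y (i2 r) (i3 r) s)) =
      lv ((X (Fin (r + 4)) F).y (i2 r) (i3 r) ((ζ : F) ^ 2 * s)) := by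
  have h1 : cj (lv (rho n23 (dd ζ)) : GL Ipn F) (lv ((X (Fin (r + 4)) F).y (i2 r) (i3 r) s)) =
      lv ((X (Fin (r + 4)) F).y (i2 r) (i3 r) ((ζ : F) ^ 2 * s)) := by
    rw [← rho_x n23, ← cj_map, ← cj_map, dd_x, rho_x]
  have h2 : ∀ u : F, cj (rhoM g : GL Ipn F) (lv ((X (Fin (r + 4)) F).y (i2 r) (i3 r) u)) =
      lv ((X (Fin (r + 4)) F).y (i2 r) (i3 r) u) := by
    intro u
    rw [← rho_x n23]
    exact cj_of_comm (rhoM_T_comm g (x u))
  rw [cj_comp, h1, h2]

/-- Two generators of `Ω⁺`. -/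
theorem om_two_gen [Fintype F] :
    ∃ a b : GL Ipn F, a ∈ OmegaPlus.Om' (r + 4) F ∧ b ∈ OmegaPlus.Om' (r + 4) F ∧
      Subgroup.closure {a, b} = OmegaPlus.Om' (r + 4) F := by
  obtain ⟨ζ, hζ⟩ := Cfsg.Agent.Lib.PresSL.SL2Data.exists_gen_unit (F := F)
  obtain ⟨g, e, e₂, hge, hde, he₂, hcop, hg01, hg10⟩ := exists_g ζ hζ
  obtain ⟨s, M, hM⟩ := exists_isMono (F := F) (finRotate (r + 4))
  have hcomm := rhoM_T_comm (r := r) g (dd ζ)
  refine ⟨lv M, (rhoM g * lv (rho n23 (dd ζ))) * OmegaPlus.Y (valid_ll n01) 1, lv_mem M,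
    mul_mem (mul_mem (rhoM_mem _) (lv_mem _)) (OmegaPlus.Y_mem _ _), ?_⟩
  set c : GL Ipn F := rhoM g * lv (rho n23 (dd ζ)) with hc
  set H := Subgroup.closure {lv M, c * OmegaPlus.Y (valid_ll (n01 (r := r))) (1 : F)} with hH
  have ha : (lv M : GL Ipn F) ∈ H := Subgroup.subset_closure (by simp)
  have hb : c * OmegaPlus.Y (valid_ll (n01 (r := r))) (1 : F) ∈ H := Subgroup.subset_closure (by simp)
  have hc1 : c ^ e = 1 := by
    rw [hc, Commute.mul_pow hcomm, ← map_pow, hge, map_one, one_mul, ← map_pow, ← map_pow, hde, map_one, map_one]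
  have hY1 : (OmegaPlus.Y (valid_ll (n01 (r := r))) (1 : F)) ^ e₂ = 1 := by
    rw [add_pow (f := OmegaPlus.Y (valid_ll (n01 (r := r)))) (fun s t => (OmegaPlus.Y_mul _ s t).symm), nsmul_eq_mul,
      he₂, zero_mul, OmegaPlus.Y_zero]
  have hcomm2 : c * OmegaPlus.Y (valid_ll (n01 (r := r))) (1 : F) =
      OmegaPlus.Y (valid_ll (n01 (r := r))) (1 : F) * c := by
    rw [hc, mul_assoc, ← y01_comm_T, ← mul_assoc, ← y01_comm_rhoM, mul_assoc]
  obtain ⟨hcH, hY⟩ := mem_of_coprime hcomm2 hc1 hY1 hcop H hb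
  let H' := H.comap (lv (n := r + 4) (F := F))
  have hM' : M ∈ H' := ha
  have h01' : (X (Fin (r + 4)) F).y 0 1 1 ∈ H' := by
    show lv _ ∈ H
    rw [lv_y n01 (valid_ll n01)]
    exact hY
  have hone := all_y_one H' hM hM' h01'
  have hstep : ∀ s, (X (Fin (r + 4)) F).y (i2 r) (i3 r) s ∈ H' →
      (X (Fin (r + 4)) F).y (i2 r) (i3 r) ((ζ : F) ^ 2 * s) ∈ H' := by
    intro s hs
    show lv _ ∈ H
    rw [← cj_c_y g ζ s]
    exact cj_mem' hcH hs
  have hsc : ∀ (v : Fˣ) (s : F), (X (Fin (r + 4)) F).y (i2 r) (i3 r) s ∈ H' →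
      (X (Fin (r + 4)) F).y (i2 r) (i3 r) ((v : F) ^ 2 * s) ∈ H' := by
    intro v s hs
    obtain ⟨k, rfl⟩ := hζ v
    induction k with
    | zero => simpa using hs
    | succ k ih =>
      have h1 := hstep _ ih
      have e : ((ζ ^ (k + 1) : Fˣ) : F) ^ 2 * s = (ζ : F) ^ 2 * (((ζ ^ k : Fˣ) : F) ^ 2 * s) := by
        push_cast
        ring
      rw [e]
      exact h1
  have hspread := spread_sq H' (f := (X (Fin (r + 4)) F).y (i2 r) (i3 r))
    ((X (Fin (r + 4)) F).add _ _ n23) one_ne_zero (hone _ _ n23) hsc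
  have h3 : ∀ a b : Fin (r + 4), ∃ c, c ≠ a ∧ c ≠ b := by
    intro a b
    exact OmegaPlus.exists_third (by omega)
  have hall := all_y_of_one H' h3 hone n23 hspread
  have hlv : ∀ M, (lv M : GL Ipn F) ∈ H := fun M => mem_of_y H' hall M
  have hgH : (rhoM g : GL Ipn F) ∈ H := by
    have : (rhoM g : GL Ipn F) = c * (lv (rho n23 (dd ζ)))⁻¹ := by
      rw [hc, mul_inv_cancel_right]
    rw [this]
    exact mul_mem hcH (inv_mem (hlv _))
  have hA : ∀ t, OmegaPlus.Y (v1i (r := r)) t ∈ H := by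
    intro τ
    have h1 := mix_A (r := r) g (τ / g.1 1 0)
    rw [mul_div_cancel₀ _ hg10] at h1
    have h2 : OmegaPlus.Y (v1i (r := r)) τ = (lv ((X (Fin (r + 4)) F).y 0 (i2 r) (g.1 0 0 * (τ / g.1 1 0))))⁻¹ *
        ((rhoM g) * lv ((X (Fin (r + 4)) F).y 0 (i2 r) (τ / g.1 1 0)) * (rhoM g)⁻¹) := by
      rw [h1]
      group
    rw [h2]
    exact mul_mem (inv_mem (hlv _)) (mul_mem (mul_mem hgH (hlv _)) (inv_mem hgH))
  have hB : ∀ t, OmegaPlus.Y (vi1 (r := r)) t ∈ H := by
    intro τ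
    have h1 := mix_B (r := r) g (τ / g.1 0 1)
    rw [div_mul_cancel₀ _ hg01] at h1
    have h2 : OmegaPlus.Y (vi1 (r := r)) τ = (lv ((X (Fin (r + 4)) F).y (i2 r) 0 (τ / g.1 0 1 * g.1 0 0)))⁻¹ *
        ((rhoM g)⁻¹ * (lv ((X (Fin (r + 4)) F).y (i2 r) 0 (τ / g.1 0 1)) * (rhoM g))) := by
      rw [h1]
      group
    rw [h2]
    exact mul_mem (inv_mem (hlv _)) (mul_mem (inv_mem hgH) (mul_mem (hlv _) hgH))
  apply le_antisymm
  · rw [hH, Subgroup.closure_le]
    rintro _ (rfl | rfl)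
    · exact lv_mem M
    · exact mul_mem (mul_mem (rhoM_mem _) (lv_mem _)) (OmegaPlus.Y_mem _ _)
  · exact top_of_mixed H hlv hA hB

theorem Om_gen [Fintype F] : ∃ a b : ↥(OmegaPlus.Om' (r + 4) F), Subgroup.closure {a, b} = ⊤ := by
  obtain ⟨a, b, ha, hb, h⟩ := om_two_gen (F := F) (r := r)
  refine ⟨⟨a, ha⟩, ⟨b, hb⟩, ?_⟩
  rw [eq_top_iff]
  rintro ⟨x, hx⟩ _
  have hx' : x ∈ Subgroup.closure {a, b} := by
    rw [h]
    exact hx
  have h1 := MonoidHom.map_closure (OmegaPlus.Om' (r + 4) F).subtype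
    ({⟨a, ha⟩, ⟨b, hb⟩} : Set ↥(OmegaPlus.Om' (r + 4) F))
  rw [Set.image_pair] at h1
  have h2 : x ∈ (Subgroup.closure ({⟨a, ha⟩, ⟨b, hb⟩} : Set ↥(OmegaPlus.Om' (r + 4) F))).map
      (OmegaPlus.Om' (r + 4) F).subtype := by
    rw [h1]
    exact hx'
  obtain ⟨y, hy, rfl⟩ := h2
  exact hy

end Real

/-- `PΩ⁺_{2m}(F)` is generated by two elements. -/
theorem pomega_two_gen [Fintype F] (m : ℕ) (hm : 4 ≤ m) :
    ∃ a b : Cfsg.POmega F (Cfsg.quadFormPlus m F), Subgroup.closure {a, b} = ⊤ := by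
  obtain ⟨r, rfl⟩ : ∃ r, m = r + 4 := ⟨m - 4, by omega⟩
  obtain ⟨a₀, b₀, h⟩ := Om_gen (F := F) (r := r)
  let E := omEquiv (r + 4) (by omega) F
  let π := (QuotientGroup.mk' (Subgroup.center (Cfsg.Omega F (Cfsg.quadFormPlus (r + 4) F)))).comp
    E.symm.toMonoidHom
  refine ⟨π a₀, π b₀, ?_⟩
  have h1 := MonoidHom.map_closure π ({a₀, b₀} : Set _)
  rw [h, Set.image_pair] at h1
  rw [← h1]
  exact Subgroup.map_top_of_surjective _
    ((QuotientGroup.mk'_surjective _).comp E.symm.surjective)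

end Cfsg.Agent.Lib.PresOm.TwoGen
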