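import Mathlib
import Cfsg.Agent.Lib.PresOm.TwoGen
import Cfsg.Agent.Lib.Classical.Geo.OPts

/-!
# Two generators for `Ω(Q)`: an abstract criterion

`Q` is a nondegenerate quadratic form with a hyperbolic family `e i, f i` of rank at least `3`.
-/

set_option autoImplicit false
set_option linter.unusedSectionVars false
set_option linter.unusedSimpArgs false
set_option linter.unusedVariables false

namespace Cfsg.Agent.Lib.PresOm.TwoGenQ

open Equiv Matrix Matrix.SpecialLinearGroup QuadraticMap Module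
open scoped MatrixGroups commutatorElement
open Cfsg.Agent.Lib.PSL2.Basic Cfsg.Agent.Lib.PresSL.Aut
open Cfsg.Agent.Lib.Steinberg.Family Cfsg.Agent.Lib.Steinberg.LinearStem
open Cfsg.Agent.Lib.PresSL.Real
open Cfsg.Agent.Lib.PresSp (IsMono WW isMono_WW WW_eq Cz cj_map cj_cj cj_comm' cz_y)
open Cfsg.Agent.Lib.PresSp.Gen2
open Cfsg.Agent.Lib.Classical.Orth.Basic
open Cfsg.Agent.Lib.Classical.Orth.CartanDieudonne
open Cfsg.Agent.Lib.Classical.Orth.Adjust
open Cfsg.Agent.Lib.Classical.Orth.Siegel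
open Cfsg.Agent.Lib.Classical.Orth.Generation
open Cfsg.Agent.Lib.Classical.Orth.Simple

variable {ι : Type} [Fintype ι] [DecidableEq ι] {F : Type*} [Field F]

/-- A hyperbolic family. -/
structure HF (Q : QuadraticForm F (ι → F)) (r : ℕ) where
  e : Fin r → ι → F
  f : Fin r → ι → F
  he : ∀ i, Q (e i) = 0
  hf : ∀ i, Q (f i) = 0
  hee : ∀ i j, polar (⇑Q) (e i) (e j) = 0
  hff : ∀ i j, polar (⇑Q) (f i) (f j) = 0
  hef : ∀ i j, polar (⇑Q) (e i) (f j) = if i = j then 1 else 0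

namespace HF

variable {Q : QuadraticForm F (ι → F)} {r : ℕ} (L : HF Q r)

set_option quotPrecheck false in
local notation "𝔣" => polar (⇑Q)

theorem hfe (i j : Fin r) : polar (⇑Q) (L.f i) (L.e j) = if i = j then 1 else 0 := by
  rw [polar_comm, L.hef]
  simp [eq_comm]

/-- The opposite family. -/
def swap : HF Q r where
  e := L.f
  f := L.e
  he := L.hf
  hf := L.he
  hee := L.hff
  hff := L.hee
  hef := L.hfe

noncomputable def cL : (ι → F) →ₗ[F] (Fin r → F) := LinearMap.pi fun i => polarBilin Q (L.f i)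

noncomputable def dL : (ι → F) →ₗ[F] (Fin r → F) := LinearMap.pi fun i => polarBilin Q (L.e i)

theorem cL_apply (x : ι → F) (i : Fin r) : L.cL x i = 𝔣 (L.f i) x := rfl

theorem dL_apply (x : ι → F) (i : Fin r) : L.dL x i = 𝔣 (L.e i) x := rfl

noncomputable def Ec : (Fin r → F) →ₗ[F] (ι → F) := Fintype.linearCombination F L.e

noncomputable def Fc : (Fin r → F) →ₗ[F] (ι → F) := Fintype.linearCombination F L.f

theorem Ec_apply (v : Fin r → F) : L.Ec v = ∑ k, v k • L.e k := rfl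

theorem Fc_apply (v : Fin r → F) : L.Fc v = ∑ k, v k • L.f k := rfl

theorem Ec_single (k : Fin r) (t : F) : L.Ec (Pi.single k t) = t • L.e k := by
  rw [Ec_apply, Finset.sum_eq_single k]
  · simp
  · intro b _ hb
    simp [hb]
  · simp

theorem Fc_single (k : Fin r) (t : F) : L.Fc (Pi.single k t) = t • L.f k := by
  rw [Fc_apply, Finset.sum_eq_single k]
  · simp
  · intro b _ hb
    simp [hb]
  · simp

theorem cL_Ec (v : Fin r → F) : L.cL (L.Ec v) = v := by
  funext i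
  show (polarBilin Q (L.f i)) (∑ k, v k • L.e k) = v i
  rw [map_sum]
  simp only [map_smul, polarBilin_apply_apply, smul_eq_mul, L.hfe]
  simp

theorem dL_Fc (v : Fin r → F) : L.dL (L.Fc v) = v := by
  funext i
  show (polarBilin Q (L.e i)) (∑ k, v k • L.f k) = v i
  rw [map_sum]
  simp only [map_smul, polarBilin_apply_apply, smul_eq_mul, L.hef]
  simp

theorem cL_Fc (v : Fin r → F) : L.cL (L.Fc v) = 0 := by
  funext i
  show (polarBilin Q (L.f i)) (∑ k, v k • L.f k) = 0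
  rw [map_sum]
  simp only [map_smul, polarBilin_apply_apply, smul_eq_mul, L.hff]
  simp

theorem dL_Ec (v : Fin r → F) : L.dL (L.Ec v) = 0 := by
  funext i
  show (polarBilin Q (L.e i)) (∑ k, v k • L.e k) = 0
  rw [map_sum]
  simp only [map_smul, polarBilin_apply_apply, smul_eq_mul, L.hee]
  simp

/-- The Levi action. -/
noncomputable def lvL (A B : Matrix (Fin r) (Fin r) F) : (ι → F) →ₗ[F] (ι → F) :=
  LinearMap.id + L.Ec ∘ₗ (A - 1).mulVecLin ∘ₗ L.cL + L.Fc ∘ₗ (B - 1).mulVecLin ∘ₗ L.dL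

theorem lvL_apply (A B : Matrix (Fin r) (Fin r) F) (x : ι → F) :
    L.lvL A B x = x + L.Ec ((A - 1) *ᵥ L.cL x) + L.Fc ((B - 1) *ᵥ L.dL x) := rfl

theorem cL_lvL (A B : Matrix (Fin r) (Fin r) F) (x : ι → F) : L.cL (L.lvL A B x) = A *ᵥ L.cL x := by
  rw [lvL_apply, map_add, map_add, cL_Ec, cL_Fc, add_zero, Matrix.sub_mulVec, Matrix.one_mulVec]
  abel

theorem dL_lvL (A B : Matrix (Fin r) (Fin r) F) (x : ι → F) : L.dL (L.lvL A B x) = B *ᵥ L.dL x := by
  rw [lvL_apply, map_add, map_add, dL_Ec, dL_Fc, add_zero, Matrix.sub_mulVec, Matrix.one_mulVec]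
  abel

theorem lvL_mul (A B A' B' : Matrix (Fin r) (Fin r) F) (x : ι → F) :
    L.lvL A B (L.lvL A' B' x) = L.lvL (A * A') (B * B') x := by
  rw [lvL_apply, cL_lvL, dL_lvL, lvL_apply, lvL_apply]
  have h1 : (A * A' - 1) *ᵥ L.cL x = (A - 1) *ᵥ (A' *ᵥ L.cL x) + (A' - 1) *ᵥ L.cL x := by
    simp only [Matrix.sub_mulVec, Matrix.one_mulVec]
    rw [Matrix.mulVec_mulVec]
    abel
  have h2 : (B * B' - 1) *ᵥ L.dL x = (B - 1) *ᵥ (B' *ᵥ L.dL x) + (B' - 1) *ᵥ L.dL x := by
    simp only [Matrix.sub_mulVec, Matrix.one_mulVec]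
    rw [Matrix.mulVec_mulVec]
    abel
  rw [h1, h2, map_add, map_add]
  abel

theorem lvL_one (x : ι → F) : L.lvL 1 1 x = x := by
  simp [lvL_apply]

theorem lvL_mulMat (A B A' B' : Matrix (Fin r) (Fin r) F) :
    LinearMap.toMatrix' (L.lvL A B) * LinearMap.toMatrix' (L.lvL A' B') =
      LinearMap.toMatrix' (L.lvL (A * A') (B * B')) := by
  rw [← LinearMap.toMatrix'_comp]
  congr 1
  ext1 j
  apply LinearMap.ext
  intro x
  exact L.lvL_mul A B A' B' _

theorem lvL_oneMat : LinearMap.toMatrix' (L.lvL (1 : Matrix (Fin r) (Fin r) F) 1) = 1 := by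
  have : L.lvL (1 : Matrix (Fin r) (Fin r) F) 1 = LinearMap.id := by
    apply LinearMap.ext
    exact L.lvL_one
  rw [this, LinearMap.toMatrix'_id]

/-- The Levi embedding. -/
noncomputable def lvGL : SpecialLinearGroup (Fin r) F →* GL ι F where
  toFun M := ⟨LinearMap.toMatrix' (L.lvL M.1 ((M⁻¹ : SpecialLinearGroup (Fin r) F).1)ᵀ),
    LinearMap.toMatrix' (L.lvL ((M⁻¹ : SpecialLinearGroup (Fin r) F).1) (M.1)ᵀ),
    by
      rw [lvL_mulMat, ← Matrix.transpose_mul]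
      have h1 : M.1 * ((M⁻¹ : SpecialLinearGroup (Fin r) F).1) = 1 := by
        have := congrArg Subtype.val (mul_inv_cancel M)
        exact this
      rw [h1, Matrix.transpose_one, lvL_oneMat],
    by
      rw [lvL_mulMat, ← Matrix.transpose_mul]
      have h2 : ((M⁻¹ : SpecialLinearGroup (Fin r) F).1) * M.1 = 1 := by
        have := congrArg Subtype.val (inv_mul_cancel M)
        exact this
      rw [h2, Matrix.transpose_one, lvL_oneMat]⟩
  map_one' := by
    apply Units.ext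
    have h : ((1 : SpecialLinearGroup (Fin r) F)⁻¹ : SpecialLinearGroup (Fin r) F) = 1 := inv_one
    show LinearMap.toMatrix' (L.lvL (1 : SpecialLinearGroup (Fin r) F).1
      (((1 : SpecialLinearGroup (Fin r) F)⁻¹ : SpecialLinearGroup (Fin r) F).1)ᵀ) = 1
    rw [h]
    show LinearMap.toMatrix' (L.lvL (1 : Matrix (Fin r) (Fin r) F) (1 : Matrix (Fin r) (Fin r) F)ᵀ) = 1
    rw [Matrix.transpose_one, lvL_oneMat]
  map_mul' M N := by
    apply Units.ext
    show LinearMap.toMatrix' (L.lvL (M * N).1 _) =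
      LinearMap.toMatrix' (L.lvL M.1 _) * LinearMap.toMatrix' (L.lvL N.1 _)
    rw [lvL_mulMat, ← Matrix.transpose_mul]
    congr 3
    rw [_root_.mul_inv_rev]
    rfl

theorem lvGL_mulVec (M : SpecialLinearGroup (Fin r) F) (x : ι → F) :
    ((L.lvGL M : GL ι F) : Matrix ι ι F) *ᵥ x =
      L.lvL M.1 ((M⁻¹ : SpecialLinearGroup (Fin r) F).1)ᵀ x :=
  LinearMap.toMatrix'_mulVec _ x

theorem pol_ef {i j : Fin r} (hij : i ≠ j) (t : F) : polar (⇑Q) (L.e i) (t • L.f j) = 0 := by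
  rw [polar_smul_right', L.hef, if_neg hij, mul_zero]

/-- Root elements of the Levi subgroup are Eichler transformations. -/
theorem lvGL_y {i j : Fin r} (hij : i ≠ j) (t : F) :
    L.lvGL ((X (Fin r) F).y i j t) = ((eichlerIso (L.he i) (L.pol_ef hij (-t)) : ↥(Cfsg.isometryGroup F (⇑Q))) : GL ι F) := by
  apply Units.ext
  apply Matrix.ext_of_mulVec_single
  intro k
  generalize (Pi.single k 1 : ι → F) = x
  rw [lvGL_mulVec, eichlerIso_coe, eichlerMatrix_mulVec, lvL_apply, ← (X (Fin r) F).y_neg hij, X_y hij t, X_y hij (-t)]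
  have h1 : ((SpecialLinearGroup.transvection hij t).1 - 1) *ᵥ L.cL x = Pi.single i (t * L.cL x j) := by
    show (Matrix.transvection i j t - 1) *ᵥ L.cL x = _
    rw [Matrix.transvection, add_sub_cancel_left, Matrix.single_mulVec]
    rfl
  have h2 : (((SpecialLinearGroup.transvection hij (-t)).1)ᵀ - 1) *ᵥ L.dL x = Pi.single j (-t * L.dL x i) := by
    show ((Matrix.transvection i j (-t))ᵀ - 1) *ᵥ L.dL x = _
    rw [Matrix.transvection, Matrix.transpose_add, Matrix.transpose_one, Matrix.transpose_single, add_sub_cancel_left,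
      Matrix.single_mulVec]
    rfl
  rw [h1, h2, Ec_single, Fc_single, cL_apply, dL_apply, Q_smul, L.hf, mul_zero, zero_mul, zero_smul, sub_zero,
    polar_smul_left', polar_comm (⇑Q) (L.e i) x]
  module

theorem lvGL_iso (M : SpecialLinearGroup (Fin r) F) : L.lvGL M ∈ Cfsg.isometryGroup F (⇑Q) := by
  have h1 : (⊤ : Subgroup (SpecialLinearGroup (Fin r) F)) ≤ (Cfsg.isometryGroup F (⇑Q)).comap L.lvGL := by
    rw [← Cfsg.Agent.Lib.Linalg.Transvection.closure_transvections, Subgroup.closure_le]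
    rintro _ ⟨i, j, hij, t, rfl⟩
    show L.lvGL (SpecialLinearGroup.transvection hij t) ∈ Cfsg.isometryGroup F (⇑Q)
    rw [← X_y hij, L.lvGL_y hij]
    exact (eichlerIso _ _).2
  exact h1 (Subgroup.mem_top M)

/-- The Levi embedding in the isometry group. -/
noncomputable def lvO : SpecialLinearGroup (Fin r) F →* ↥(Cfsg.isometryGroup F (⇑Q)) :=
  L.lvGL.codRestrict _ L.lvGL_iso

theorem act_lvO (M : SpecialLinearGroup (Fin r) F) (x : ι → F) :
    act (L.lvO M) x = L.lvL M.1 ((M⁻¹ : SpecialLinearGroup (Fin r) F).1)ᵀ x :=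
  L.lvGL_mulVec M x

theorem lvO_y {i j : Fin r} (hij : i ≠ j) (t : F) :
    L.lvO ((X (Fin r) F).y i j t) = eichlerIso (L.he i) (L.pol_ef hij (-t)) :=
  Subtype.ext (L.lvGL_y hij t)

theorem lvO_mem [Fintype F] (hQ : (polarBilin Q).Nondegenerate) (hn : 5 ≤ Fintype.card ι)
    (M : SpecialLinearGroup (Fin r) F) : L.lvO M ∈ Cfsg.Omega F (⇑Q) := by
  have h1 : (⊤ : Subgroup (SpecialLinearGroup (Fin r) F)) ≤ (Cfsg.Omega F (⇑Q)).comap L.lvO := by
    rw [← Cfsg.Agent.Lib.Linalg.Transvection.closure_transvections, Subgroup.closure_le]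
    rintro _ ⟨i, j, hij, t, rfl⟩
    show L.lvO (SpecialLinearGroup.transvection hij t) ∈ Cfsg.Omega F (⇑Q)
    rw [← X_y hij, L.lvO_y hij]
    exact eichler_mem_omega hQ hn _ _
  exact h1 (Subgroup.mem_top M)

/-- Orthogonal to the family. -/
def Perp (w : ι → F) : Prop := ∀ i, 𝔣 (L.e i) w = 0 ∧ 𝔣 (L.f i) w = 0

theorem swap_perp {w : ι → F} (h : L.Perp w) : L.swap.Perp w := fun i => ⟨(h i).2, (h i).1⟩

theorem act_ef {i j : Fin r} (hij : i ≠ j) (t : F) (x : ι → F) :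
    act (eichlerIso (L.he i) (L.pol_ef hij t)) x = x + (𝔣 (L.e i) x * t) • L.f j - (t * 𝔣 (L.f j) x) • L.e i := by
  rw [act_eichlerIso, Q_smul, L.hf, mul_zero, zero_mul, zero_smul, sub_zero, polar_smul_left', smul_smul]

/-- The main step: one point of the family. -/
theorem pts_e0 (H : Subgroup ↥(Cfsg.isometryGroup F (⇑Q))) {a₀ a₁ a₂ : Fin r}
    (h01 : a₀ ≠ a₁) (h02 : a₀ ≠ a₂) (h12 : a₁ ≠ a₂)
    (R : ↥(Cfsg.isometryGroup F (⇑Q))) (hRH : R ∈ H) (hR0 : act R (L.e a₀) = L.e a₀)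
    (hE : ∀ (i j : Fin r) (hij : i ≠ j) (t : F), eichlerIso (L.he i) (L.pol_ef hij t) ∈ H)
    (hS : ∀ t : Fˣ, ∃ g ∈ H, act g (L.e a₀) = (t : F) • L.e a₀ ∧ ∀ w, L.Perp w → act g w = w)
    {α β α' β' : F} {w₁ w₂ : ι → F}
    (hRf : act R (L.f a₂) = α • L.e a₂ + β • L.f a₂ + w₁)
    (hRe : act R (L.e a₂) = α' • L.e a₂ + β' • L.f a₂ + w₂)
    (hw₁ : L.Perp w₁) (hw₂ : L.Perp w₂) (hα : α ≠ 0)
    (hspan : ∀ z, L.Perp z → ∃ c₁ c₂ : F, z = c₁ • w₁ + c₂ • w₂) :
    ∀ b (hb : 𝔣 (L.e a₀) b = 0), eichlerIso (L.he a₀) hb ∈ H := by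
  have hz0 : Q (L.e a₀) = 0 := L.he a₀
  let P : (ι → F) → Prop := fun b => ∃ hb : 𝔣 (L.e a₀) b = 0, eichlerIso hz0 hb ∈ H
  have Padd : ∀ {b b'}, P b → P b' → P (b + b') := by
    rintro b b' ⟨h, m⟩ ⟨h', m'⟩
    refine ⟨by rw [polar_add_right, h, h', add_zero], ?_⟩
    rw [← eichlerIso_mul hz0 h h']
    exact mul_mem m m'
  have Pneg : ∀ {b}, P b → P (-b) := by
    rintro b ⟨h, m⟩
    refine ⟨by rw [polar_neg_right, h, neg_zero], ?_⟩
    rw [← eichlerIso_inv hz0 h]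
    exact inv_mem m
  have Psub : ∀ {b b'}, P b → P b' → P (b - b') := fun h h' => by
    rw [sub_eq_add_neg]
    exact Padd h (Pneg h')
  have P0 : P 0 := ⟨by simp [polar], by rw [eichlerIso_zero_right]; exact H.one_mem⟩
  have Pact : ∀ {g : ↥(Cfsg.isometryGroup F (⇑Q))} (hg : g ∈ H) (t : F) (hgz : act g (L.e a₀) = t • L.e a₀) {b},
      P b → P (t • act g b) := by
    rintro g hg t hgz b ⟨h, m⟩
    have h1 := conj_eichlerIso g hz0 h
    have h2 : 𝔣 (t • L.e a₀) (act g b) = 0 := by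
      rw [← hgz, polar_act, h]
    have h3 : Q (t • L.e a₀) = 0 := by
      rw [Q_smul, hz0, mul_zero]
    have h4 : 𝔣 (L.e a₀) (t • act g b) = 0 := by
      rw [polar_smul_right', ← polar_smul_left']
      exact h2
    refine ⟨h4, ?_⟩
    rw [← eichlerIso_smul t hz0 h2 h3 h4, ← eichlerIso_congr hgz rfl (by rwa [Q_act]) (by rwa [polar_act]) h3 h2, ← h1]
    exact mul_mem (mul_mem hg m) (inv_mem hg)
  have Pact1 : ∀ {g : ↥(Cfsg.isometryGroup F (⇑Q))} (hg : g ∈ H) (hgz : act g (L.e a₀) = L.e a₀) {b},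
      P b → P (act g b) := by
    intro g hg hgz b hb
    have := Pact hg 1 (by rw [one_smul]; exact hgz) hb
    rwa [one_smul] at this
  have Pf : ∀ (j : Fin r) (hj : a₀ ≠ j) (t : F), P (t • L.f j) := fun j hj t => ⟨L.pol_ef hj t, hE _ _ hj t⟩
  -- the first step
  have hA : P (α • L.e a₂ + w₁) := by
    have h0 : P (L.f a₂) := by simpa using Pf a₂ h02 (1 : F)
    have h1 := Pact1 hRH hR0 h0
    rw [hRf] at h1
    have h2 := Psub h1 (Pf a₂ h02 β)
    have e : α • L.e a₂ + β • L.f a₂ + w₁ - β • L.f a₂ = α • L.e a₂ + w₁ := by abel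
    rwa [e] at h2
  have hgz : ∀ {i j : Fin r} (hij : i ≠ j) (t : F), a₀ ≠ i → a₀ ≠ j →
      act (eichlerIso (L.he i) (L.pol_ef hij t)) (L.e a₀) = L.e a₀ := by
    intro i j hij t h1 h2
    rw [L.act_ef hij, L.hee, L.hfe, if_neg h2.symm]
    simp
  have hwfix : ∀ {i j : Fin r} (hij : i ≠ j) (t : F) {w : ι → F}, L.Perp w →
      act (eichlerIso (L.he i) (L.pol_ef hij t)) w = w := by
    intro i j hij t w hw
    rw [L.act_ef hij, (hw i).1, (hw j).2]
    simp
  have hgE : ∀ {i j : Fin r} (hij : i ≠ j) (t : F),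
      act (eichlerIso (L.he i) (L.pol_ef hij t)) (L.e j) = L.e j - t • L.e i := by
    intro i j hij t
    rw [L.act_ef hij, L.hee, L.hfe, if_pos rfl]
    simp
  have hE1 : ∀ t : F, P (t • L.e a₁) := by
    intro t
    have h1 := Pact1 (hE a₁ a₂ h12 (-(t / α))) (hgz h12 _ h01 h02) hA
    rw [act_add, act_smul, hgE h12, hwfix h12 _ hw₁] at h1
    have h2 := Psub h1 hA
    have e : α • (L.e a₂ - (-(t / α)) • L.e a₁) + w₁ - (α • L.e a₂ + w₁) = t • L.e a₁ := by
      have h3 : α * (t / α) = t := by field_simp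
      have h4 : α • (L.e a₂ - (-(t / α)) • L.e a₁) + w₁ - (α • L.e a₂ + w₁) = (α * (t / α)) • L.e a₁ := by
        module
      rw [h4, h3]
    rwa [e] at h2
  have hEj : ∀ (j : Fin r) (t : F), P (t • L.e j) := by
    intro j t
    by_cases h0 : j = a₀
    · subst h0
      refine ⟨by rw [polar_smul_right', L.hee, mul_zero], ?_⟩
      have : eichlerIso hz0 (by rw [polar_smul_right', L.hee, mul_zero] : 𝔣 (L.e j) (t • L.e j) = 0) =
          (1 : ↥(Cfsg.isometryGroup F (⇑Q))) := by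
        apply ext_act
        intro x
        rw [act_eichlerIso, act_one, Q_smul, hz0, mul_zero, zero_mul, zero_smul, polar_smul_left']
        module
      rw [this]
      exact H.one_mem
    · by_cases h1 : j = a₁
      · subst h1
        exact hE1 t
      · have hj1 : j ≠ a₁ := h1
        have h2 := Pact1 (hE j a₁ hj1 (-1)) (hgz hj1 _ (Ne.symm h0) h01) (hE1 t)
        rw [act_smul, hgE hj1] at h2
        have h3 := Psub h2 (hE1 t)
        have e : t • (L.e a₁ - (-1 : F) • L.e j) - t • L.e a₁ = t • L.e j := by module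
        rwa [e] at h3
  have hW1 : P w₁ := by
    have := Psub hA (hEj a₂ α)
    have e : α • L.e a₂ + w₁ - α • L.e a₂ = w₁ := by abel
    rwa [e] at this
  have hW2 : P w₂ := by
    have h0 : P (L.e a₂) := by simpa using hEj a₂ (1 : F)
    have h1 := Pact1 hRH hR0 h0
    rw [hRe] at h1
    have h2 := Psub (Psub h1 (hEj a₂ α')) (Pf a₂ h02 β')
    have e : α' • L.e a₂ + β' • L.f a₂ + w₂ - α' • L.e a₂ - β' • L.f a₂ = w₂ := by abel
    rwa [e] at h2
  have hscale : ∀ {w : ι → F}, L.Perp w → P w → ∀ t : F, P (t • w) := by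
    intro w hw hP t
    by_cases ht : t = 0
    · subst ht
      simpa using P0
    · obtain ⟨g, hg, h1, h2⟩ := hS (Units.mk0 t ht)
      have := Pact hg t (by simpa using h1) hP
      rwa [h2 w hw] at this
  have hperp : ∀ w, L.Perp w → P w := by
    intro w hw
    obtain ⟨c₁, c₂, rfl⟩ := hspan w hw
    exact Padd (hscale hw₁ hW1 c₁) (hscale hw₂ hW2 c₂)
  have hsum : ∀ (s : Finset (Fin r)) (v : Fin r → ι → F), (∀ k ∈ s, P (v k)) → P (∑ k ∈ s, v k) := by
    intro s v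
    induction s using Finset.cons_induction with
    | empty => intro _; simpa using P0
    | cons a s ha ih =>
      intro h
      rw [Finset.sum_cons]
      exact Padd (h a (by simp)) (ih fun k hk => h k (by simp [hk]))
  intro b hb
  have hdec : b = L.Ec (L.cL b) + L.Fc (L.dL b) + (b - L.Ec (L.cL b) - L.Fc (L.dL b)) := by abel
  have hP1 : P (L.Ec (L.cL b)) := by
    rw [Ec_apply]
    exact hsum _ _ fun k _ => hEj k _
  have hP2 : P (L.Fc (L.dL b)) := by
    rw [Fc_apply]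
    refine hsum _ _ fun k _ => ?_
    by_cases hk : a₀ = k
    · subst hk
      have : L.dL b a₀ = 0 := hb
      rw [this, zero_smul]
      exact P0
    · exact Pf k hk _
  have hP3 : P (b - L.Ec (L.cL b) - L.Fc (L.dL b)) := by
    apply hperp
    intro i
    constructor
    · rw [← dL_apply, map_sub, map_sub, L.dL_Ec, L.dL_Fc]
      simp
    · rw [← cL_apply, map_sub, map_sub, L.cL_Ec, L.cL_Fc]
      simp
  obtain ⟨_, m⟩ := Padd (Padd hP1 hP2) hP3
  have := eichlerIso_congr (Q := Q) (rfl : L.e a₀ = L.e a₀) hdec.symm hz0 ‹_› hz0 hb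
  rw [← this]
  exact m

/-! ### Blocks -/

theorem cL_e (k : Fin r) : L.cL (L.e k) = Pi.single k 1 := by
  funext i
  rw [cL_apply, L.hfe, Pi.single_apply]

theorem dL_e (k : Fin r) : L.dL (L.e k) = 0 := by
  funext i
  rw [dL_apply, L.hee]
  rfl

theorem cL_f (k : Fin r) : L.cL (L.f k) = 0 := by
  funext i
  rw [cL_apply, L.hff]
  rfl

theorem dL_f (k : Fin r) : L.dL (L.f k) = Pi.single k 1 := by
  funext i
  rw [dL_apply, L.hef, Pi.single_apply]

theorem lvL_e (A B : Matrix (Fin r) (Fin r) F) (k : Fin r) :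
    L.lvL A B (L.e k) = L.Ec (A *ᵥ Pi.single k 1) := by
  rw [lvL_apply, cL_e, dL_e, Matrix.mulVec_zero, map_zero, add_zero, Matrix.sub_mulVec, Matrix.one_mulVec, map_sub,
    Ec_single, one_smul]
  abel

theorem lvL_f (A B : Matrix (Fin r) (Fin r) F) (k : Fin r) :
    L.lvL A B (L.f k) = L.Fc (B *ᵥ Pi.single k 1) := by
  rw [lvL_apply, cL_f, dL_f, Matrix.mulVec_zero, map_zero, add_zero, Matrix.sub_mulVec, Matrix.one_mulVec, map_sub,
    Fc_single, one_smul]
  abel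

theorem lvL_perp (A B : Matrix (Fin r) (Fin r) F) {w : ι → F} (hw : L.Perp w) : L.lvL A B w = w := by
  have h1 : L.cL w = 0 := by
    funext i
    exact (hw i).2
  have h2 : L.dL w = 0 := by
    funext i
    exact (hw i).1
  rw [lvL_apply, h1, h2]
  simp

variable {a b : Fin r}

theorem dd_inv' (t : Fˣ) : (dd t : SL(2, F))⁻¹ = dd t⁻¹ := by
  have : (dd t : SL(2, F))⁻¹ = ddHom t⁻¹ := by
    rw [map_inv]
    rfl
  rw [this]
  rfl

theorem rho_col_a (hab : a ≠ b) (t : Fˣ) :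
    (rho hab (dd t : SL(2, F))).1 *ᵥ Pi.single a 1 = Pi.single a (t : F) := by
  funext l
  rw [Matrix.mulVec_single_one, Matrix.col_apply, rho_entry]
  by_cases h1 : l = a
  · subst h1
    simp
  · by_cases h2 : l = b
    · subst h2
      simp [hab, hab.symm]
    · simp [h1, h2, hab, hab.symm, Ne.symm h1]

theorem rho_col_b (hab : a ≠ b) (t : Fˣ) :
    (rho hab (dd t : SL(2, F))).1 *ᵥ Pi.single b 1 = Pi.single b ((t : F)⁻¹) := by
  funext l
  rw [Matrix.mulVec_single_one, Matrix.col_apply, rho_entry]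
  by_cases h1 : l = a
  · subst h1
    simp [hab, hab.symm]
  · by_cases h2 : l = b
    · subst h2
      simp [hab, hab.symm]
    · simp [h1, h2, hab, hab.symm, Ne.symm h2]

theorem rho_col_k (hab : a ≠ b) (t : Fˣ) {k : Fin r} (hka : k ≠ a) (hkb : k ≠ b) :
    (rho hab (dd t : SL(2, F))).1 *ᵥ Pi.single k 1 = Pi.single k 1 := by
  funext l
  rw [Matrix.mulVec_single_one, Matrix.col_apply, rho_entry]
  by_cases h1 : l = a
  · subst h1
    simp [hab, hab.symm, hka, hkb]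
  · by_cases h2 : l = b
    · subst h2
      simp [hab, hab.symm, hka, hkb]
    · simp [h1, h2, hka, hkb, Pi.single_apply]

theorem rho_row_a (hab : a ≠ b) (t : Fˣ) :
    (((rho hab (dd t : SL(2, F)))⁻¹ : SpecialLinearGroup (Fin r) F).1)ᵀ *ᵥ Pi.single a 1 = Pi.single a ((t : F)⁻¹) := by
  funext l
  rw [← map_inv, dd_inv', Matrix.mulVec_single_one, Matrix.col_apply, Matrix.transpose_apply, rho_entry]
  by_cases h1 : l = a
  · subst h1
    simp
  · by_cases h2 : l = b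
    · subst h2
      simp [hab, hab.symm]
    · simp [h1, h2, hab, hab.symm, Ne.symm h1]

theorem rho_row_b (hab : a ≠ b) (t : Fˣ) :
    (((rho hab (dd t : SL(2, F)))⁻¹ : SpecialLinearGroup (Fin r) F).1)ᵀ *ᵥ Pi.single b 1 = Pi.single b (t : F) := by
  funext l
  rw [← map_inv, dd_inv', Matrix.mulVec_single_one, Matrix.col_apply, Matrix.transpose_apply, rho_entry]
  by_cases h1 : l = a
  · subst h1
    simp [hab, hab.symm]
  · by_cases h2 : l = b
    · subst h2
      simp [hab, hab.symm]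
    · simp [h1, h2, hab, hab.symm, Ne.symm h2]

theorem rho_row_k (hab : a ≠ b) (t : Fˣ) {k : Fin r} (hka : k ≠ a) (hkb : k ≠ b) :
    (((rho hab (dd t : SL(2, F)))⁻¹ : SpecialLinearGroup (Fin r) F).1)ᵀ *ᵥ Pi.single k 1 = Pi.single k 1 := by
  funext l
  rw [← map_inv, dd_inv', Matrix.mulVec_single_one, Matrix.col_apply, Matrix.transpose_apply, rho_entry]
  by_cases h1 : l = a
  · subst h1
    simp [hab, hab.symm, hka, hkb]
  · by_cases h2 : l = b
    · subst h2
      simp [hab, hab.symm, hka, hkb]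
    · by_cases h3 : l = k
      · subst h3
        simp [hka, hkb]
      · simp [h1, h2, hka, hkb, Pi.single_apply, h3, Ne.symm h3]

theorem act_g_ea (hab : a ≠ b) (t : Fˣ) : act (L.lvO (rho hab (dd t))) (L.e a) = (t : F) • L.e a := by
  rw [act_lvO, lvL_e, rho_col_a, Ec_single]

theorem act_g_eb (hab : a ≠ b) (t : Fˣ) : act (L.lvO (rho hab (dd t))) (L.e b) = (t : F)⁻¹ • L.e b := by
  rw [act_lvO, lvL_e, rho_col_b, Ec_single]

theorem act_g_fa (hab : a ≠ b) (t : Fˣ) : act (L.lvO (rho hab (dd t))) (L.f a) = (t : F)⁻¹ • L.f a := by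
  rw [act_lvO, lvL_f, rho_row_a, Fc_single]

theorem act_g_fb (hab : a ≠ b) (t : Fˣ) : act (L.lvO (rho hab (dd t))) (L.f b) = (t : F) • L.f b := by
  rw [act_lvO, lvL_f, rho_row_b, Fc_single]

theorem act_g_fk (hab : a ≠ b) (t : Fˣ) {k : Fin r} (hka : k ≠ a) (hkb : k ≠ b) :
    act (L.lvO (rho hab (dd t))) (L.f k) = L.f k := by
  rw [act_lvO, lvL_f, rho_row_k hab t hka hkb, Fc_single, one_smul]

theorem act_g_perp (hab : a ≠ b) (t : Fˣ) {w : ι → F} (hw : L.Perp w) : act (L.lvO (rho hab (dd t))) w = w := by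
  rw [act_lvO, lvL_perp _ _ _ hw]

/-- An isometry fixing the two ends commutes with the Eichler transformation. -/
theorem comm_eichler (R : ↥(Cfsg.isometryGroup F (⇑Q))) {z c : ι → F} (hz : Q z = 0) (hc : 𝔣 z c = 0)
    (h1 : act R z = z) (h2 : act R c = c) : R * eichlerIso hz hc = eichlerIso hz hc * R := by
  have h3 := conj_eichlerIso R hz hc
  have h4 : R * eichlerIso hz hc * R⁻¹ = eichlerIso hz hc := by
    rw [h3]
    exact eichlerIso_congr h1 h2 _ _ _ _
  exact mul_inv_eq_iff_eq_mul.mp h4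

/-- An isometry fixing the two hyperbolic pairs commutes with the block. -/
theorem comm_block (hab : a ≠ b) (R : ↥(Cfsg.isometryGroup F (⇑Q))) (h1 : act R (L.e a) = L.e a) (h2 : act R (L.e b) = L.e b)
    (h3 : act R (L.f a) = L.f a) (h4 : act R (L.f b) = L.f b) (z : SL(2, F)) :
    R * L.lvO (rho hab z) = L.lvO (rho hab z) * R := by
  have := Cfsg.Agent.Lib.Linalg.Quad.FieldGen.mem_of_x_y ((Subgroup.centralizer {R}).comap (L.lvO.comp (rho hab)))
    (fun t => ?_) (fun t => ?_) z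
  · exact Subgroup.mem_centralizer_iff.1 this R rfl
  · show L.lvO (rho hab (x t)) ∈ Subgroup.centralizer {R}
    rw [Subgroup.mem_centralizer_iff]
    intro h' hh
    have hh' : h' = R := hh
    rw [hh', rho_x, L.lvO_y hab]
    exact comm_eichler R _ _ h1 (by rw [act_smul, h4])
  · show L.lvO (rho hab (y t)) ∈ Subgroup.centralizer {R}
    rw [Subgroup.mem_centralizer_iff]
    intro h' hh
    have hh' : h' = R := hh
    rw [hh', rho_y, L.lvO_y hab.symm]
    exact comm_eichler R _ _ h2 (by rw [act_smul, h3])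

/-! ### The flip and the torus element -/

theorem Q_flip (b : Fin r) : Q (L.e b - L.f b) = -1 := by
  rw [Q_sub Q, L.hef, if_pos rfl, L.he, L.hf]
  ring

theorem flip_ne (b : Fin r) : Q (L.e b - L.f b) ≠ 0 := by
  rw [Q_flip]
  simp

/-- The flip at `b`. -/
noncomputable def flp (b : Fin r) : ↥(Cfsg.isometryGroup F (⇑Q)) := reflectionIso Q (L.e b - L.f b) (L.flip_ne b)

theorem flp_inv (b : Fin r) : (L.flp b)⁻¹ = L.flp b := reflectionIso_inv Q _ _

theorem act_flp (b : Fin r) (x : ι → F) : act (L.flp b) x = x + 𝔣 (L.e b - L.f b) x • (L.e b - L.f b) := by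
  rw [flp, reflectionIso_act, Q_flip]
  have h : ((-1 : F))⁻¹ = -1 := by simp
  rw [h]
  module

theorem act_flp_e (b : Fin r) : act (L.flp b) (L.e b) = L.f b := by
  rw [act_flp, polar_sub_left, L.hee, L.hfe, if_pos rfl]
  simp

theorem act_flp_f (b : Fin r) : act (L.flp b) (L.f b) = L.e b := by
  rw [act_flp, polar_sub_left, L.hff, L.hef, if_pos rfl]
  simp

theorem act_flp_ea (hab : a ≠ b) : act (L.flp b) (L.e a) = L.e a := by
  rw [act_flp, polar_sub_left, L.hee, L.hfe, if_neg hab.symm]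
  simp

theorem act_flp_fk {k : Fin r} (hkb : k ≠ b) : act (L.flp b) (L.f k) = L.f k := by
  rw [act_flp, polar_sub_left, L.hff, L.hef, if_neg hkb.symm]
  simp

/-- The torus element: `μ` on `e a, e b`, `μ⁻¹` on `f a, f b`. -/
noncomputable def DD (hab : a ≠ b) (t : Fˣ) : ↥(Cfsg.isometryGroup F (⇑Q)) :=
  L.flp b * L.lvO (rho hab (dd t)) * (L.flp b)⁻¹

theorem act_DD_ea (hab : a ≠ b) (t : Fˣ) : act (L.DD hab t) (L.e a) = (t : F) • L.e a := by
  rw [DD, L.flp_inv, act_mul, act_mul, act_flp_ea _ hab, act_g_ea, act_smul, act_flp_ea _ hab]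

theorem act_DD_fa (hab : a ≠ b) (t : Fˣ) : act (L.DD hab t) (L.f a) = (t : F)⁻¹ • L.f a := by
  rw [DD, L.flp_inv, act_mul, act_mul, act_flp_fk _ hab, act_g_fa, act_smul, act_flp_fk _ hab]

theorem act_DD_fb (hab : a ≠ b) (t : Fˣ) : act (L.DD hab t) (L.f b) = (t : F)⁻¹ • L.f b := by
  rw [DD, L.flp_inv, act_mul, act_mul, act_flp_f, act_g_eb, act_smul, act_flp_e]

theorem act_DD_fk (hab : a ≠ b) (t : Fˣ) {k : Fin r} (hka : k ≠ a) (hkb : k ≠ b) :
    act (L.DD hab t) (L.f k) = L.f k := by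
  rw [DD, L.flp_inv, act_mul, act_mul, act_flp_fk _ hkb, act_g_fk _ hab t hka hkb, act_flp_fk _ hkb]

theorem DD_pow (hab : a ≠ b) (t : Fˣ) (n : ℕ) : (L.DD hab t) ^ n = L.DD hab (t ^ n) := by
  have h1 : (dd t : SL(2, F)) ^ n = dd (t ^ n) := by
    have : (dd t : SL(2, F)) ^ n = ddHom (t ^ n) := by
      rw [map_pow]
      rfl
    rw [this]
    rfl
  rw [DD, conj_pow, ← map_pow, ← map_pow, h1, DD]

theorem DD_one (hab : a ≠ b) : L.DD hab (1 : Fˣ) = 1 := by
  rw [DD]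
  have : (dd (1 : Fˣ) : SL(2, F)) = 1 := dd_one
  rw [this, map_one, map_one, mul_one, mul_inv_cancel]

theorem DD_mem [Fintype F] (hQ : (polarBilin Q).Nondegenerate) (hn : 5 ≤ Fintype.card ι) (hab : a ≠ b) (t : Fˣ) :
    L.DD hab t ∈ Cfsg.Omega F (⇑Q) :=
  (inferInstance : (Cfsg.Omega F (⇑Q)).Normal).conj_mem _ (L.lvO_mem hQ hn _) _

theorem comm_DD (hab : a ≠ b) (t : Fˣ) (R : ↥(Cfsg.isometryGroup F (⇑Q))) (h1 : act R (L.e a) = L.e a)
    (h2 : act R (L.e b) = L.e b) (h3 : act R (L.f a) = L.f a) (h4 : act R (L.f b) = L.f b) :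
    R * L.DD hab t = L.DD hab t * R := by
  have hP : R * L.flp b = L.flp b * R := by
    have h5 := conj_reflectionIso R (L.e b - L.f b) (L.flip_ne b)
    have h6 : act R (L.e b - L.f b) = L.e b - L.f b := by rw [act_sub, h2, h4]
    have h7 : R * L.flp b * R⁻¹ = L.flp b := by
      rw [flp, h5]
      congr 1
    exact mul_inv_eq_iff_eq_mul.mp h7
  have hG := L.comm_block hab R h1 h2 h3 h4 (dd t)
  rw [DD, L.flp_inv]
  calc R * (L.flp b * L.lvO (rho hab (dd t)) * L.flp b) = (R * L.flp b) * L.lvO (rho hab (dd t)) * L.flp b := by group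
    _ = L.flp b * (R * L.lvO (rho hab (dd t))) * L.flp b := by rw [hP]; group
    _ = L.flp b * L.lvO (rho hab (dd t)) * (R * L.flp b) := by rw [hG]; group
    _ = _ := by rw [hP]; group

end HF

/-- All the root elements with parameter one, by rotation. -/
theorem all_y_one3 {s : ℕ} (H : Subgroup (SpecialLinearGroup (Fin (s + 3)) F))
    {σ : Fin (s + 3) → F} {M : SpecialLinearGroup (Fin (s + 3)) F}
    (h : IsMono (finRotate (s + 3)) σ M) (hM : M ∈ H) (h01 : (X (Fin (s + 3)) F).y 0 1 1 ∈ H) :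
    ∀ i j, i ≠ j → (X (Fin (s + 3)) F).y i j 1 ∈ H := by
  have h10 : (1 : Fin (s + 3)) ≠ 0 := by simp
  have ne_add : ∀ i c : Fin (s + 3), c ≠ 0 → i ≠ i + c := by
    intro i c hc h
    exact hc (left_eq_add.mp h)
  have hstep : ∀ i : Fin (s + 3), (X (Fin (s + 3)) F).y i (i + 1) 1 ∈ H := by
    intro i
    induction i using Fin.induction with
    | zero => simpa using h01
    | succ a ih =>
      have h2 := Cfsg.Agent.Lib.PresOm.TwoGen.y_mono_mem H h hM (i := a.castSucc) (j := a.castSucc + 1)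
        (ne_add _ _ h10) ih
      rw [finRotate_apply, finRotate_apply, Fin.coeSucc_eq_succ] at h2
      exact h2
  have hnext : ∀ c i : Fin (s + 3), c ≠ 0 → c + 1 ≠ 0 → (X (Fin (s + 3)) F).y i (i + c) 1 ∈ H →
      (X (Fin (s + 3)) F).y i (i + c + 1) 1 ∈ H := by
    intro c i hc hc1 h3
    have h4 := hstep (i + c)
    have h5 := (X (Fin (s + 3)) F).comm i (i + c) (i + c + 1)
      (ne_add _ _ hc) (ne_add _ _ h10) (by
        rw [add_assoc]
        exact ne_add _ _ hc1) 1 1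
    rw [one_mul] at h5
    rw [← h5]
    exact mul_mem (mul_mem (mul_mem h3 h4) (inv_mem h3)) (inv_mem h4)
  have hall : ∀ c : Fin (s + 3), c ≠ 0 → ∀ i, (X (Fin (s + 3)) F).y i (i + c) 1 ∈ H := by
    intro c
    induction c using Fin.induction with
    | zero => intro h0; exact absurd rfl h0
    | succ a ih =>
      intro hs i
      rw [← Fin.coeSucc_eq_succ] at hs ⊢
      by_cases ha : a.castSucc = 0
      · rw [ha, zero_add]
        exact hstep i
      · rw [← add_assoc]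
        exact hnext _ _ ha hs (ih ha i)
  intro i j hij
  have h6 := hall (j - i) (by simpa [sub_eq_zero] using hij.symm) i
  rwa [add_sub_cancel] at h6

section Core

variable {Q : QuadraticForm F (ι → F)}

set_option quotPrecheck false in
local notation "𝔣" => polar (⇑Q)

open Cfsg.Agent.Lib.PresOm.TwoGen in
/-- The abstract criterion. -/
theorem two_gen_core [Fintype F] {s : ℕ} (L : HF Q (s + 3)) (hQ : (polarBilin Q).Nondegenerate)
    (hn : 5 ≤ Fintype.card ι) (R : ↥(Cfsg.isometryGroup F (⇑Q))) (hRΩ : R ∈ Cfsg.Omega F (⇑Q))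
    (hRe0 : act R (L.e 0) = L.e 0) (hRe1 : act R (L.e 1) = L.e 1)
    (hRf0 : act R (L.f 0) = L.f 0) (hRf1 : act R (L.f 1) = L.f 1)
    {eR eD p : ℕ} (hRo : R ^ eR = 1) (hp : (p : F) = 0) (hc1 : eR.Coprime eD) (hc2 : (eR * eD).Coprime p)
    (ζ : Fˣ) (hζ : ∀ u : Fˣ, ∃ k : ℕ, u = ζ ^ k) (hD : (ζ ^ 2) ^ eD = 1)
    {α β α' β' : F} {w₁ w₂ : ι → F}
    (hRf : act R (L.f 2) = α • L.e 2 + β • L.f 2 + w₁)
    (hRe : act R (L.e 2) = α' • L.e 2 + β' • L.f 2 + w₂)
    (hw₁ : L.Perp w₁) (hw₂ : L.Perp w₂) (hα : α ≠ 0) (hβ' : β' ≠ 0)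
    (hspan : ∀ z, L.Perp z → ∃ c₁ c₂ : F, z = c₁ • w₁ + c₂ • w₂) :
    ∃ a b : ↥(Cfsg.isometryGroup F (⇑Q)), a ∈ Cfsg.Omega F (⇑Q) ∧ b ∈ Cfsg.Omega F (⇑Q) ∧
      Subgroup.closure {a, b} = Cfsg.Omega F (⇑Q) := by
  have h01 : (0 : Fin (s + 3)) ≠ 1 := by simp
  have h02 : (0 : Fin (s + 3)) ≠ 2 := by
    intro h
    have := congrArg Fin.val h
    rw [Fin.val_zero, Fin.val_two] at this
    omega
  have h12 : (1 : Fin (s + 3)) ≠ 2 := by
    intro h
    have := congrArg Fin.val h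
    rw [Fin.val_one, Fin.val_two] at this
    omega
  obtain ⟨σ, M, hM⟩ := exists_isMono (F := F) (finRotate (s + 3))
  set D := L.DD h01 (ζ ^ 2) with hDdef
  set E := L.lvO ((X (Fin (s + 3)) F).y 0 1 1) with hE
  have hEdef : E = eichlerIso (L.he 0) (L.pol_ef h01 (-1)) := L.lvO_y h01 1
  have hRD : R * D = D * R := L.comm_DD h01 _ R hRe0 hRe1 hRf0 hRf1
  have hRE : R * E = E * R := by
    rw [hEdef]
    exact HF.comm_eichler R _ _ hRe0 (by rw [act_smul, hRf1])
  have hDE : D * E = E * D := by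
    have h3 := conj_eichlerIso D (L.he 0) (L.pol_ef h01 (-1))
    have e1 : act D (L.e 0) = ((ζ ^ 2 : Fˣ) : F) • L.e 0 := L.act_DD_ea h01 _
    have e2 : act D ((-1 : F) • L.f 1) = ((ζ ^ 2 : Fˣ) : F)⁻¹ • ((-1 : F) • L.f 1) := by
      rw [act_smul, L.act_DD_fb h01]
      module
    have hz : Q (((ζ ^ 2 : Fˣ) : F) • L.e 0) = 0 := by rw [Q_smul, L.he, mul_zero]
    have hb : 𝔣 (((ζ ^ 2 : Fˣ) : F) • L.e 0) (((ζ ^ 2 : Fˣ) : F)⁻¹ • ((-1 : F) • L.f 1)) = 0 := by
      rw [polar_smul_left', polar_smul_right', L.pol_ef h01 (-1)]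
      simp
    have hb' : 𝔣 (L.e 0) (((ζ ^ 2 : Fˣ) : F) • (((ζ ^ 2 : Fˣ) : F)⁻¹ • ((-1 : F) • L.f 1))) = 0 := by
      rw [polar_smul_right', polar_smul_right', L.pol_ef h01 (-1)]
      simp
    have h4 : D * eichlerIso (L.he 0) (L.pol_ef h01 (-1)) * D⁻¹ = eichlerIso (L.he 0) (L.pol_ef h01 (-1)) := by
      rw [h3, eichlerIso_congr e1 e2 _ _ hz hb, eichlerIso_smul _ (L.he 0) hb hz hb']
      apply eichlerIso_congr rfl
      rw [smul_smul, mul_inv_cancel₀ (Units.ne_zero _), one_smul]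
    rw [hEdef]
    exact mul_inv_eq_iff_eq_mul.mp h4
  refine ⟨L.lvO M, R * D * E, L.lvO_mem hQ hn M, mul_mem (mul_mem hRΩ (L.DD_mem hQ hn _ _)) (L.lvO_mem hQ hn _), ?_⟩
  set H := Subgroup.closure {L.lvO M, R * D * E} with hH
  have ha : L.lvO M ∈ H := Subgroup.subset_closure (by simp)
  have hb : R * D * E ∈ H := Subgroup.subset_closure (by simp)
  have hDo : D ^ eD = 1 := by
    rw [hDdef, L.DD_pow, hD, L.DD_one]
  have hcomm : (R * D) * E = E * (R * D) := by
    rw [mul_assoc, hDE, ← mul_assoc, hRE, mul_assoc]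
  have hRDo : (R * D) ^ (eR * eD) = 1 := by
    rw [Commute.mul_pow hRD, pow_mul, hRo, one_pow, mul_comm, pow_mul, hDo, one_pow, one_mul]
  have hEo : E ^ p = 1 := by
    have h3 := add_pow (f := fun t => L.lvO ((X (Fin (s + 3)) F).y 0 1 t))
      (fun a b => by simp only [(X (Fin (s + 3)) F).add _ _ h01, map_mul]) 1 p
    rw [hE, h3, nsmul_eq_mul, hp, zero_mul, (X (Fin (s + 3)) F).y_zero h01, map_one]
  obtain ⟨hRDH, hEH⟩ := mem_of_coprime hcomm hRDo hEo hc2 H hb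
  obtain ⟨hRH, hDH⟩ := mem_of_coprime hRD hRo hDo hc1 H hRDH
  let H' := H.comap L.lvO
  have hM' : M ∈ H' := ha
  have h01' : (X (Fin (s + 3)) F).y 0 1 1 ∈ H' := hEH
  have hone := all_y_one3 H' hM hM' h01'
  have hstep : ∀ t, (X (Fin (s + 3)) F).y 0 2 t ∈ H' → (X (Fin (s + 3)) F).y 0 2 ((ζ : F) ^ 2 * t) ∈ H' := by
    intro t ht
    have h3 : L.lvO ((X (Fin (s + 3)) F).y 0 2 t) ∈ H := ht
    have h4 := mul_mem (mul_mem hDH h3) (inv_mem hDH)
    rw [L.lvO_y h02, conj_eichlerIso] at h4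
    have e1 : act D (L.e 0) = ((ζ : F) ^ 2) • L.e 0 := by
      rw [hDdef, L.act_DD_ea h01]
      simp
    have e2 : act D ((-t) • L.f 2) = (-t) • L.f 2 := by
      rw [act_smul, hDdef, L.act_DD_fk h01 _ h02.symm h12.symm]
    have hz : Q (((ζ : F) ^ 2) • L.e 0) = 0 := by rw [Q_smul, L.he, mul_zero]
    have hb₁ : 𝔣 (((ζ : F) ^ 2) • L.e 0) ((-t) • L.f 2) = 0 := by
      rw [polar_smul_left', L.pol_ef h02 (-t), mul_zero]
    have hb' : 𝔣 (L.e 0) (((ζ : F) ^ 2) • ((-t) • L.f 2)) = 0 := by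
      rw [polar_smul_right', L.pol_ef h02 (-t), mul_zero]
    rw [eichlerIso_congr e1 e2 _ _ hz hb₁, eichlerIso_smul _ (L.he 0) hb₁ hz hb'] at h4
    show L.lvO _ ∈ H
    rw [L.lvO_y h02]
    convert h4 using 2
    rw [smul_smul]
    congr 1
    ring
  have hsc : ∀ (v : Fˣ) (t : F), (X (Fin (s + 3)) F).y 0 2 t ∈ H' →
      (X (Fin (s + 3)) F).y 0 2 ((v : F) ^ 2 * t) ∈ H' := by
    intro v t ht
    obtain ⟨k, rfl⟩ := hζ v
    induction k with
    | zero => simpa using ht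
    | succ k ih =>
      have h1 := hstep _ ih
      have e : ((ζ ^ (k + 1) : Fˣ) : F) ^ 2 * t = (ζ : F) ^ 2 * (((ζ ^ k : Fˣ) : F) ^ 2 * t) := by
        push_cast
        ring
      rw [e]
      exact h1
  have hspread := spread_sq H' (f := (X (Fin (s + 3)) F).y 0 2)
    ((X (Fin (s + 3)) F).add _ _ h02) one_ne_zero (hone _ _ h02) hsc
  have h3 : ∀ a b : Fin (s + 3), ∃ c, c ≠ a ∧ c ≠ b := by
    intro a b
    exact Cfsg.Agent.Lib.ChevIso.OmegaPlus.exists_third (by omega)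
  have hall := Cfsg.Agent.Lib.PresOm.TwoGen.all_y_of_one H' h3 hone h02 hspread
  have hlv : ∀ M, L.lvO M ∈ H := fun M => Cfsg.Agent.Lib.PresOm.TwoGen.mem_of_y H' hall M
  have hE' : ∀ (i j : Fin (s + 3)) (hij : i ≠ j) (t : F), eichlerIso (L.he i) (L.pol_ef hij t) ∈ H := by
    intro i j hij t
    have h4 := hlv ((X (Fin (s + 3)) F).y i j (-t))
    rw [L.lvO_y hij] at h4
    rwa [eichlerIso_congr rfl (by rw [neg_neg]) _ _ (L.he i) (L.pol_ef hij t)] at h4
  have hPerpSwap : ∀ w, L.swap.Perp w → L.Perp w := fun w hw i => ⟨(hw i).2, (hw i).1⟩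
  have hp0 := L.pts_e0 H h01 h02 h12 R hRH hRe0 hE'
    (fun t => ⟨L.lvO (rho h01 (dd t)), hlv _, L.act_g_ea h01 t, fun w hw => L.act_g_perp h01 t hw⟩)
    hRf hRe hw₁ hw₂ hα hspan
  have hq0 := L.swap.pts_e0 H h01 h02 h12 R hRH hRf0
    (fun i j hij t => by
      have h4 := hE' j i hij.symm (-t)
      have h' : 𝔣 (L.f i) (t • L.e j) = 0 := L.swap.pol_ef hij t
      have e : eichlerIso (L.he j) (L.pol_ef hij.symm (-t)) = eichlerIso (L.hf i) h' := by
        apply ext_act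
        intro x
        rw [L.act_ef hij.symm, act_eichlerIso]
        have h5 : Q (t • L.e j) = 0 := by rw [Q_smul, L.he, mul_zero]
        rw [h5, zero_mul, zero_smul, polar_smul_left']
        module
      rw [e] at h4
      exact h4)
    (fun t => ⟨L.lvO (rho h01 (dd t⁻¹)), hlv _, by
      have := L.act_g_fa h01 t⁻¹
      show act _ (L.f 0) = (t : F) • L.f 0
      simpa using this, fun w hw => L.act_g_perp h01 _ (hPerpSwap w hw)⟩)
    (show act R (L.e 2) = β' • L.f 2 + α' • L.e 2 + w₂ by rw [hRe]; abel)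
    (show act R (L.f 2) = β • L.f 2 + α • L.e 2 + w₁ by rw [hRf]; abel)
    (L.swap_perp hw₂) (L.swap_perp hw₁) hβ'
    (fun z hz => by
      obtain ⟨c₁, c₂, e⟩ := hspan z (hPerpSwap z hz)
      exact ⟨c₂, c₁, by rw [e]; abel⟩)
  let MM := H.map (Cfsg.isometryGroup F (⇑Q)).subtype
  have hp1 : L.e 0 ∈ Cfsg.Agent.Lib.Classical.Geo.OPts.pts (Q := Q) MM :=
    ⟨L.he 0, fun b hb => ⟨_, hp0 b hb, rfl⟩⟩
  have hq1 : L.f 0 ∈ Cfsg.Agent.Lib.Classical.Geo.OPts.pts (Q := Q) MM :=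
    ⟨L.hf 0, fun b hb => ⟨_, hq0 b hb, rfl⟩⟩
  have hpq : 𝔣 (L.e 0) (L.f 0) ≠ 0 := by
    rw [L.hef, if_pos rfl]
    exact one_ne_zero
  have hle := Cfsg.Agent.Lib.Classical.Geo.OPts.omegaGL_le hQ hn (M := MM) (fun y hy =>
    Cfsg.Agent.Lib.Classical.Geo.OPts.pts_all hQ hp1 hq1 hpq hy)
  apply le_antisymm
  · rw [hH, Subgroup.closure_le]
    rintro _ (rfl | rfl)
    · exact L.lvO_mem hQ hn M
    · exact mul_mem (mul_mem hRΩ (L.DD_mem hQ hn _ _)) (L.lvO_mem hQ hn _)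
  · intro g hg
    obtain ⟨g', hg', e⟩ := hle ⟨g, hg, rfl⟩
    have : g' = g := Subtype.ext e
    rwa [← this]

end Core

end Cfsg.Agent.Lib.PresOm.TwoGenQ
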