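import Mathlib
import Cfsg.Agent.Lib.PresOm.TwoGenQ
import Cfsg.Agent.Lib.Linalg.BinaryAniso

/-!
# Rotations in an anisotropic plane of a quadratic space

`Pl Q a b` is an orthogonal direct summand with basis `p₀, p₁` on which `Q` is the norm form
`x² + a x y + b y²`.  Norm-one elements of the quadratic extension act on it.
-/

set_option autoImplicit false
set_option linter.unusedSectionVars false
set_option linter.unusedSimpArgs false
set_option linter.unusedVariables false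

namespace Cfsg.Agent.Lib.PresOm.PlaneRot

open Matrix QuadraticMap Module
open scoped MatrixGroups commutatorElement
open QuadraticAlgebra
open Cfsg.Agent.Lib.Classical.Orth.Basic
open Cfsg.Agent.Lib.Classical.Orth.Siegel
open Cfsg.Agent.Lib.Classical.Orth.Generation
open Cfsg.Agent.Lib.Linalg.BinaryAniso
open Cfsg.Agent.Lib.PresOm.TwoGenQ

variable {ι : Type} [Fintype ι] [DecidableEq ι] {F : Type*} [Field F]

/-- An anisotropic plane. -/
structure Pl (Q : QuadraticForm F (ι → F)) (a b : F) where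
  p₀ : ι → F
  p₁ : ι → F
  π₀ : (ι → F) →ₗ[F] F
  π₁ : (ι → F) →ₗ[F] F
  h00 : π₀ p₀ = 1
  h01 : π₀ p₁ = 0
  h10 : π₁ p₀ = 0
  h11 : π₁ p₁ = 1
  Q0 : Q p₀ = 1
  Q1 : Q p₁ = b
  pol0 : ∀ x, polar (⇑Q) p₀ x = 2 * π₀ x + a * π₁ x
  pol1 : ∀ x, polar (⇑Q) p₁ x = a * π₀ x + 2 * b * π₁ x

/-- The norm-one elements. -/
noncomputable def NormOne (a b : F) : Subgroup (KK a b)ˣ :=
  ((norm : KK a b →* F).comp (Units.coeHom (KK a b))).ker

theorem mem_NormOne {a b : F} {u : (KK a b)ˣ} : u ∈ NormOne a b ↔ norm (u : KK a b) = 1 := by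
  rw [NormOne, MonoidHom.mem_ker]
  rfl

namespace Pl

variable {Q : QuadraticForm F (ι → F)} {a b : F} (P : Pl Q a b)

/-- The rotation as a linear map. -/
noncomputable def rrL (z : KK a b) : (ι → F) →ₗ[F] (ι → F) :=
  LinearMap.id + ((z.re - 1) • P.π₀ - (b * z.im) • P.π₁).smulRight P.p₀ +
    (z.im • P.π₀ + (z.re + a * z.im - 1) • P.π₁).smulRight P.p₁

theorem rrL_apply (z : KK a b) (x : ι → F) :
    P.rrL z x = x + ((z.re - 1) * P.π₀ x - b * z.im * P.π₁ x) • P.p₀ +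
      (z.im * P.π₀ x + (z.re + a * z.im - 1) * P.π₁ x) • P.p₁ := rfl

theorem π₀_rrL (z : KK a b) (x : ι → F) : P.π₀ (P.rrL z x) = z.re * P.π₀ x - b * z.im * P.π₁ x := by
  rw [rrL_apply]
  simp only [map_add, map_smul, P.h00, P.h01, smul_eq_mul]
  ring

theorem π₁_rrL (z : KK a b) (x : ι → F) : P.π₁ (P.rrL z x) = z.im * P.π₀ x + (z.re + a * z.im) * P.π₁ x := by
  rw [rrL_apply]
  simp only [map_add, map_smul, P.h10, P.h11, smul_eq_mul]
  ring

theorem rrL_mul (z z' : KK a b) (x : ι → F) : P.rrL (z * z') x = P.rrL z (P.rrL z' x) := by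
  rw [P.rrL_apply z (P.rrL z' x), π₀_rrL, π₁_rrL, rrL_apply, rrL_apply]
  simp only [QuadraticAlgebra.re_mul, QuadraticAlgebra.im_mul]
  module

theorem rrL_one (x : ι → F) : P.rrL (1 : KK a b) x = x := by
  rw [rrL_apply]
  simp

/-- The rotation as a monoid homomorphism. -/
noncomputable def rrEnd : KK a b →* Module.End F (ι → F) where
  toFun := P.rrL
  map_one' := LinearMap.ext P.rrL_one
  map_mul' z z' := LinearMap.ext (P.rrL_mul z z')

/-- The rotation in `GL`. -/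
noncomputable def rrGL : (KK a b)ˣ →* GL ι F :=
  Units.map ((LinearMap.toMatrixAlgEquiv' : ((ι → F) →ₗ[F] (ι → F)) ≃ₐ[F] Matrix ι ι F).toRingEquiv.toMonoidHom.comp P.rrEnd)

theorem rrGL_mulVec (u : (KK a b)ˣ) (x : ι → F) :
    ((P.rrGL u : GL ι F) : Matrix ι ι F) *ᵥ x = P.rrL u x :=
  LinearMap.toMatrix'_mulVec (P.rrL (u : KK a b)) x

theorem Q_rrL {z : KK a b} (hz : norm z = 1) (x : ι → F) : Q (P.rrL z x) = Q x := by
  have hpp : polar (⇑Q) P.p₀ P.p₁ = a := by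
    rw [P.pol0, P.h01, P.h11]; ring
  have hz' : z.re ^ 2 + a * z.re * z.im + b * z.im ^ 2 = 1 := by
    rw [QuadraticAlgebra.norm_def] at hz
    linear_combination hz
  rw [rrL_apply, add_assoc, Q_add, Q_add, Q_smul, Q_smul, polar_add_right, polar_smul_right', polar_smul_right',
    polar_smul_left', polar_smul_right', hpp, polar_comm (⇑Q) x P.p₀, polar_comm (⇑Q) x P.p₁, P.pol0, P.pol1, P.Q0, P.Q1]
  linear_combination (P.π₀ x ^ 2 + a * P.π₀ x * P.π₁ x + b * P.π₁ x ^ 2) * hz'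

/-- The rotation in the isometry group. -/
noncomputable def rrO : ↥(NormOne a b) →* ↥(Cfsg.isometryGroup F (⇑Q)) :=
  (P.rrGL.comp (NormOne a b).subtype).codRestrict _ (fun u => (mem_isometryGroup_iff Q _).2 (by
    intro x
    exact (congrArg Q (P.rrGL_mulVec u.1 x)).trans (P.Q_rrL (mem_NormOne.1 u.2) x)))

theorem act_rrO (u : ↥(NormOne a b)) (x : ι → F) : act (P.rrO u) x = P.rrL (u.1 : KK a b) x :=
  P.rrGL_mulVec u.1 x

theorem Q0_ne : Q P.p₀ ≠ 0 := by
  rw [P.Q0]; exact one_ne_zero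

/-- The reflection in `p₀`. -/
noncomputable def sO : ↥(Cfsg.isometryGroup F (⇑Q)) := reflectionIso Q P.p₀ P.Q0_ne

theorem act_sO (x : ι → F) : act P.sO x = x - (2 * P.π₀ x + a * P.π₁ x) • P.p₀ := by
  rw [sO, reflectionIso_act, P.Q0, P.pol0, inv_one, one_mul]

theorem sO_inv : P.sO⁻¹ = P.sO := reflectionIso_inv Q _ _

theorem s_rr_s (z : KK a b) (x : ι → F) : act P.sO (P.rrL (star z) (act P.sO x)) = P.rrL z x := by
  have h1 : ∀ y, P.π₀ (act P.sO y) = -P.π₀ y - a * P.π₁ y := by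
    intro y
    rw [act_sO]
    simp only [map_sub, map_smul, P.h00, smul_eq_mul]
    ring
  have h2 : ∀ y, P.π₁ (act P.sO y) = P.π₁ y := by
    intro y
    rw [act_sO]
    simp only [map_sub, map_smul, P.h10, smul_eq_mul]
    ring
  rw [P.act_sO (P.rrL _ _), π₀_rrL, π₁_rrL, h1, h2, rrL_apply, rrL_apply, act_sO, map_sub, map_sub, map_smul, map_smul,
    P.h00, P.h10]
  simp only [QuadraticAlgebra.re_star, QuadraticAlgebra.im_star]
  module

theorem star_eq_inv (u : ↥(NormOne a b)) : star (u.1 : KK a b) = ((u⁻¹ : ↥(NormOne a b)).1 : KK a b) := by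
  have h : (u.1 : KK a b) * star (u.1 : KK a b) = 1 := by
    rw [← algebraMap_norm_eq_mul_star, mem_NormOne.1 u.2, map_one]
  have := Units.inv_eq_of_mul_eq_one_right h
  simp [← this]

theorem comm_rrO (u : ↥(NormOne a b)) : ⁅P.rrO u, P.sO⁆ = P.rrO (u * u) := by
  apply ext_act
  intro x
  rw [commutatorElement_def, map_mul, P.sO_inv, act_mul, act_mul, act_mul, act_mul, ← map_inv, act_rrO,
    act_rrO, ← star_eq_inv, s_rr_s, act_rrO, act_rrO]

theorem rrO_mem (u : ↥(NormOne a b)) : P.rrO (u * u) ∈ Cfsg.Omega F (⇑Q) := by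
  rw [← comm_rrO]
  exact Subgroup.commutator_mem_commutator (Subgroup.mem_top _) (Subgroup.mem_top _)

end Pl

/-- The norm one elements used. -/
theorem exists_nu [Fintype F] {a b : F} [Fact (∀ r : F, r ^ 2 ≠ -b + a * r)] {q : ℕ} (hF : Fintype.card F = q) :
    ∃ u : ↥(NormOne a b), (u * u) ≠ 1 ∧ (∀ n, (q + 1) ∣ 2 * n → (u * u) ^ n = 1) ∧
      (q ≠ 3 → (u * u) * (u * u) ≠ 1) := by
  have hq2 : 1 < q := hF ▸ Fintype.one_lt_card
  obtain ⟨u, hu⟩ := exists_generator (a := a) (b := b) hF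
  have hN : u ∈ NormOne a b := by
    rw [mem_NormOne]
    have h1 := pow_succ_eq_norm hF (u : KK a b)
    have h2 : (u : KK a b) ^ (q + 1) = 1 := by
      have := pow_orderOf_eq_one u
      rw [hu] at this
      have h3 := congrArg (Units.val) this
      simpa using h3
    rw [h2] at h1
    have h3 := congrArg QuadraticAlgebra.re h1
    simpa using h3.symm
  have hsq : ∀ k : ℕ, (⟨u, hN⟩ : ↥(NormOne a b)) ^ k = 1 ↔ (q + 1) ∣ k := by
    intro k
    rw [← hu, orderOf_dvd_iff_pow_eq_one, Subtype.ext_iff]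
    simp
  refine ⟨⟨u, hN⟩, ?_, ?_, ?_⟩
  · intro h
    rw [← pow_two, hsq] at h
    have := Nat.le_of_dvd (by norm_num) h
    omega
  · intro n hn
    rw [← pow_two, ← pow_mul, hsq]
    exact hn
  · intro h3 h
    have h4 : (⟨u, hN⟩ : ↥(NormOne a b)) ^ 4 = 1 := by
      rw [show (4 : ℕ) = 2 + 2 from rfl, pow_add, pow_two]
      exact h
    rw [hsq] at h4
    have h5 := Nat.le_of_dvd (by norm_num) h4
    have h6 : q = 1 ∨ q = 2 ∨ q = 3 := by omega
    rcases h6 with h6 | h6 | h6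
    · omega
    · subst h6
      revert h4
      decide
    · exact h3 h6

/-- Exponents. -/
theorem exists_eR_eD [Fintype F] {q : ℕ} (hF : Fintype.card F = q) :
    ∃ eR eD : ℕ, (q + 1) ∣ 2 * eR ∧ (q - 1) ∣ 2 * eD ∧ eR.Coprime eD ∧ (eR * eD).Coprime (ringChar F) := by
  have hq2 : 1 < q := hF ▸ Fintype.one_lt_card
  obtain ⟨n, hp, hq⟩ := FiniteField.card F (ringChar F)
  have hpq : ringChar F ∣ q := by
    rw [← hF, hq]
    exact dvd_pow_self _ n.ne_zero
  have h1 : (q + 1).Coprime q := by simp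
  have h2 : (q - 1).Coprime q := by
    have : q = (q - 1) + 1 := by omega
    rw [this]
    simp
  have hc : ((q + 1) * (q - 1)).Coprime (ringChar F) :=
    Nat.Coprime.mul_left (Nat.Coprime.coprime_dvd_right hpq h1) (Nat.Coprime.coprime_dvd_right hpq h2)
  rcases Nat.even_or_odd q with he | ho
  · obtain ⟨t, ht⟩ := he
    obtain ⟨t', rfl⟩ : ∃ t', t = t' + 1 := ⟨t - 1, by omega⟩
    refine ⟨q + 1, q - 1, dvd_mul_left _ _, dvd_mul_left _ _, ?_, hc⟩
    have e1 : q + 1 = 2 + (2 * t' + 1) := by omega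
    have e2 : q - 1 = 2 * t' + 1 := by omega
    rw [e1, e2, Nat.coprime_add_self_left]
    exact Nat.coprime_two_left.2 ⟨t', rfl⟩
  · obtain ⟨t, ht⟩ := ho
    refine ⟨t + 1, t, ?_, ?_, ?_, ?_⟩
    · rw [ht]
      exact ⟨1, by ring⟩
    · rw [ht]
      exact ⟨1, by omega⟩
    · simp
    · refine Nat.Coprime.coprime_dvd_left ?_ hc
      exact ⟨4, by subst ht; simp; ring⟩

/-- From two generators of `Ω` to two generators of `PΩ`. -/
theorem pomega_of_core {Q : (ι → F) → F} (h : ∃ a b : ↥(Cfsg.isometryGroup F Q), a ∈ Cfsg.Omega F Q ∧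
    b ∈ Cfsg.Omega F Q ∧ Subgroup.closure {a, b} = Cfsg.Omega F Q) :
    ∃ x y : Cfsg.POmega F Q, Subgroup.closure {x, y} = ⊤ := by
  obtain ⟨a, b, ha, hb, hab⟩ := h
  have hΩ : Subgroup.closure ({⟨a, ha⟩, ⟨b, hb⟩} : Set ↥(Cfsg.Omega F Q)) = ⊤ := by
    rw [eq_top_iff]
    rintro ⟨x, hx⟩ _
    have hx' : x ∈ Subgroup.closure {a, b} := by
      rw [hab]
      exact hx
    have h1 := MonoidHom.map_closure (Cfsg.Omega F Q).subtype
      ({⟨a, ha⟩, ⟨b, hb⟩} : Set ↥(Cfsg.Omega F Q))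
    rw [Set.image_pair] at h1
    have h2 : x ∈ (Subgroup.closure ({⟨a, ha⟩, ⟨b, hb⟩} : Set ↥(Cfsg.Omega F Q))).map
        (Cfsg.Omega F Q).subtype := by
      rw [h1]
      exact hx'
    obtain ⟨y, hy, rfl⟩ := h2
    exact hy
  let π := QuotientGroup.mk' (Subgroup.center (Cfsg.Omega F Q))
  refine ⟨π ⟨a, ha⟩, π ⟨b, hb⟩, ?_⟩
  have h1 := MonoidHom.map_closure π ({⟨a, ha⟩, ⟨b, hb⟩} : Set _)
  rw [hΩ, Set.image_pair] at h1
  rw [← h1]
  exact Subgroup.map_top_of_surjective _ (QuotientGroup.mk'_surjective _)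

end Cfsg.Agent.Lib.PresOm.PlaneRot
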