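import Mathlib
import Cfsg.Agent.Lib.PresOm.PlaneRot
import Cfsg.Agent.Lib.Classical.Orth.Models

/-!
# `PΩ⁻_{2m}(q)` is generated by two elements
-/

set_option autoImplicit false
set_option linter.unusedSectionVars false
set_option linter.unusedSimpArgs false
set_option linter.unusedVariables false

namespace Cfsg.Agent.Lib.PresOm.TwoGenMinus

open Matrix QuadraticMap Module
open scoped MatrixGroups commutatorElement
open QuadraticAlgebra
open Cfsg.Agent.Lib.Classical.Orth.Basic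
open Cfsg.Agent.Lib.Classical.Orth.Models
open Cfsg.Agent.Lib.Classical.Orth.Siegel
open Cfsg.Agent.Lib.Classical.Orth.Generation
open Cfsg.Agent.Lib.Classical.Orth.Simple
open Cfsg.Agent.Lib.Linalg.BinaryAniso
open Cfsg.Agent.Lib.PresOm.TwoGenQ
open Cfsg.Agent.Lib.PresOm.PlaneRot

variable {F : Type*} [Field F] {m : ℕ} {a b : F}

/-- The hyperbolic family of the form. -/
noncomputable def minusHF (m : ℕ) (a b : F) : HF (minusForm m F a b) m where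
  e i := Pi.single (Sum.inl (Sum.inl i)) 1
  f i := Pi.single (Sum.inl (Sum.inr i)) 1
  he i := by
    rw [coe_minusForm_apply]
    simp [Cfsg.quadFormMinus, Pi.single_apply]
  hf i := by
    rw [coe_minusForm_apply]
    simp [Cfsg.quadFormMinus, Pi.single_apply]
  hee i j := by
    rw [coe_minusForm, polar_minus_single_inl]
    simp [Pi.single_apply]
  hff i j := by
    rw [coe_minusForm, polar_minus_single_inr]
    simp [Pi.single_apply]
  hef i j := by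
    rw [coe_minusForm, polar_minus_single_inl]
    simp [Pi.single_apply, eq_comm]

/-- The anisotropic plane. -/
noncomputable def minusPl (m : ℕ) (a b : F) : Pl (minusForm m F a b) a b where
  p₀ := Pi.single (Sum.inr 0) 1
  p₁ := Pi.single (Sum.inr 1) 1
  π₀ := LinearMap.proj (Sum.inr 0)
  π₁ := LinearMap.proj (Sum.inr 1)
  h00 := by simp
  h01 := by simp [Pi.single_apply]
  h10 := by simp [Pi.single_apply]
  h11 := by simp
  Q0 := by
    rw [coe_minusForm_apply]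
    simp [Cfsg.quadFormMinus, Pi.single_apply]
  Q1 := by
    rw [coe_minusForm_apply]
    simp [Cfsg.quadFormMinus, Pi.single_apply]
  pol0 x := by
    rw [coe_minusForm, polar_minus_single_z0]
    rfl
  pol1 x := by
    rw [coe_minusForm, polar_minus_single_z1]
    rfl

local notation "𝐐" => minusForm m F a b
local notation "𝐋" => minusHF (F := F) m a b
local notation "𝐏" => minusPl (F := F) m a b

theorem pol_e (i : Fin m) (x : (Fin m ⊕ Fin m) ⊕ Fin 2 → F) :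
    polar (⇑𝐐) ((𝐋).e i) x = x (Sum.inl (Sum.inr i)) := by
  rw [coe_minusForm]
  exact polar_minus_single_inl m a b i x

theorem pol_f (i : Fin m) (x : (Fin m ⊕ Fin m) ⊕ Fin 2 → F) :
    polar (⇑𝐐) ((𝐋).f i) x = x (Sum.inl (Sum.inl i)) := by
  rw [coe_minusForm]
  exact polar_minus_single_inr m a b i x

/-- A vector of the plane. -/
noncomputable def wv (m : ℕ) (a b : F) (y₀ y₁ : F) : (Fin m ⊕ Fin m) ⊕ Fin 2 → F :=
  y₀ • (minusPl m a b).p₀ + y₁ • (minusPl m a b).p₁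

theorem pol_w (y₀ y₁ : F) (x : (Fin m ⊕ Fin m) ⊕ Fin 2 → F) :
    polar (⇑𝐐) (wv m a b y₀ y₁) x =
      y₀ * (2 * x (Sum.inr 0) + a * x (Sum.inr 1)) + y₁ * (a * x (Sum.inr 0) + 2 * b * x (Sum.inr 1)) := by
  rw [wv, polar_add_left, polar_smul_left', polar_smul_left', (𝐏).pol0, (𝐏).pol1]
  rfl

theorem Q_w (y₀ y₁ : F) : 𝐐 (wv m a b y₀ y₁) = y₀ ^ 2 + a * y₀ * y₁ + b * y₁ ^ 2 := by
  rw [coe_minusForm_apply]
  simp [Cfsg.quadFormMinus, wv, minusPl, Pi.single_apply]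

theorem e_w (i : Fin m) (y₀ y₁ : F) : polar (⇑𝐐) ((𝐋).e i) (wv m a b y₀ y₁) = 0 := by
  rw [pol_e]
  simp [wv, minusPl, Pi.single_apply]

theorem f_w (i : Fin m) (y₀ y₁ : F) : polar (⇑𝐐) ((𝐋).f i) (wv m a b y₀ y₁) = 0 := by
  rw [pol_f]
  simp [wv, minusPl, Pi.single_apply]

/-- Eichler transformations on the isotropic vectors at index `c`. -/
noncomputable def Ee (c : Fin m) (y₀ y₁ : F) : ↥(Cfsg.isometryGroup F (⇑𝐐)) :=
  eichlerIso ((𝐋).he c) (e_w c y₀ y₁)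

noncomputable def Ef (c : Fin m) (y₀ y₁ : F) : ↥(Cfsg.isometryGroup F (⇑𝐐)) :=
  eichlerIso ((𝐋).hf c) (f_w c y₀ y₁)

theorem Ee_inv (c : Fin m) (y₀ y₁ : F) : (Ee (a := a) (b := b) c y₀ y₁)⁻¹ = Ee c (-y₀) (-y₁) := by
  rw [Ee, eichlerIso_inv, Ee]
  exact eichlerIso_congr rfl (by simp [wv]; abel) _ _ _ _

theorem Ef_inv (c : Fin m) (y₀ y₁ : F) : (Ef (a := a) (b := b) c y₀ y₁)⁻¹ = Ef c (-y₀) (-y₁) := by
  rw [Ef, eichlerIso_inv, Ef]
  exact eichlerIso_congr rfl (by simp [wv]; abel) _ _ _ _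

/-- A vector in the hyperbolic plane at `c` plus the anisotropic plane. -/
noncomputable def TT (m : ℕ) (a b : F) (c : Fin m) (α β z₀ z₁ : F) : (Fin m ⊕ Fin m) ⊕ Fin 2 → F :=
  α • (minusHF m a b).e c + β • (minusHF m a b).f c + z₀ • (minusPl m a b).p₀ + z₁ • (minusPl m a b).p₁

theorem TT_ll (c : Fin m) (α β z₀ z₁ : F) : TT m a b c α β z₀ z₁ (Sum.inl (Sum.inl c)) = α := by
  simp [TT, minusHF, minusPl, Pi.single_apply]

theorem TT_lr (c : Fin m) (α β z₀ z₁ : F) : TT m a b c α β z₀ z₁ (Sum.inl (Sum.inr c)) = β := by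
  simp [TT, minusHF, minusPl, Pi.single_apply]

theorem TT_r0 (c : Fin m) (α β z₀ z₁ : F) : TT m a b c α β z₀ z₁ (Sum.inr 0) = z₀ := by
  simp [TT, minusHF, minusPl, Pi.single_apply]

theorem TT_r1 (c : Fin m) (α β z₀ z₁ : F) : TT m a b c α β z₀ z₁ (Sum.inr 1) = z₁ := by
  simp [TT, minusHF, minusPl, Pi.single_apply]

theorem act_Ee (c : Fin m) (y₀ y₁ α β z₀ z₁ : F) :
    act (Ee (a := a) (b := b) c y₀ y₁) (TT m a b c α β z₀ z₁) =
      TT m a b c (α - (y₀ * (2 * z₀ + a * z₁) + y₁ * (a * z₀ + 2 * b * z₁)) - β * (y₀ ^ 2 + a * y₀ * y₁ + b * y₁ ^ 2))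
        β (z₀ + β * y₀) (z₁ + β * y₁) := by
  rw [Ee, act_eichlerIso, Q_w, pol_e, pol_w, TT_lr, TT_r0, TT_r1, TT, TT, wv]
  module

theorem act_Ef (c : Fin m) (y₀ y₁ α β z₀ z₁ : F) :
    act (Ef (a := a) (b := b) c y₀ y₁) (TT m a b c α β z₀ z₁) =
      TT m a b c α (β - (y₀ * (2 * z₀ + a * z₁) + y₁ * (a * z₀ + 2 * b * z₁)) - α * (y₀ ^ 2 + a * y₀ * y₁ + b * y₁ ^ 2))
        (z₀ + α * y₀) (z₁ + α * y₁) := by
  rw [Ef, act_eichlerIso, Q_w, pol_f, pol_w, TT_ll, TT_r0, TT_r1, TT, TT, wv]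
  module

theorem act_rr (c : Fin m) (ν : ↥(NormOne a b)) (α β z₀ z₁ : F) :
    act ((𝐏).rrO ν) (TT m a b c α β z₀ z₁) =
      TT m a b c α β ((ν.1 : KK a b).re * z₀ - b * (ν.1 : KK a b).im * z₁)
        ((ν.1 : KK a b).im * z₀ + ((ν.1 : KK a b).re + a * (ν.1 : KK a b).im) * z₁) := by
  have h0 : (𝐏).π₀ (TT m a b c α β z₀ z₁) = z₀ := TT_r0 c α β z₀ z₁
  have h1 : (𝐏).π₁ (TT m a b c α β z₀ z₁) = z₁ := TT_r1 c α β z₀ z₁
  rw [Pl.act_rrO, Pl.rrL_apply, h0, h1, TT, TT]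
  module

theorem Q_TT (c : Fin m) (α β z₀ z₁ : F) : 𝐐 (TT m a b c α β z₀ z₁) = α * β + (z₀ ^ 2 + a * z₀ * z₁ + b * z₁ ^ 2) := by
  have e : TT m a b c α β z₀ z₁ = (α • (𝐋).e c + β • (𝐋).f c) + wv m a b z₀ z₁ := by
    simp only [TT, wv]
    abel
  rw [e, Q_add, Q_add, Q_smul, Q_smul, (𝐋).he, (𝐋).hf, Q_w, polar_add_left]
  simp only [polar_smul_left', polar_smul_right', e_w, f_w, (𝐋).hef]
  simp
  ring

theorem e_eq (c : Fin m) : (𝐋).e c = TT m a b c 1 0 0 0 := by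
  simp [TT]

theorem f_eq (c : Fin m) : (𝐋).f c = TT m a b c 0 1 0 0 := by
  simp [TT]

/-- Vectors with vanishing coordinates are fixed. -/
theorem Ee_fix (c : Fin m) (y₀ y₁ : F) {x : (Fin m ⊕ Fin m) ⊕ Fin 2 → F} (h1 : x (Sum.inl (Sum.inr c)) = 0)
    (h2 : x (Sum.inr 0) = 0) (h3 : x (Sum.inr 1) = 0) : act (Ee (a := a) (b := b) c y₀ y₁) x = x := by
  rw [Ee, act_eichlerIso, pol_e, pol_w, h1, h2, h3]
  simp

theorem Ef_fix (c : Fin m) (y₀ y₁ : F) {x : (Fin m ⊕ Fin m) ⊕ Fin 2 → F} (h1 : x (Sum.inl (Sum.inl c)) = 0)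
    (h2 : x (Sum.inr 0) = 0) (h3 : x (Sum.inr 1) = 0) : act (Ef (a := a) (b := b) c y₀ y₁) x = x := by
  rw [Ef, act_eichlerIso, pol_f, pol_w, h1, h2, h3]
  simp

theorem rr_fix (ν : ↥(NormOne a b)) {x : (Fin m ⊕ Fin m) ⊕ Fin 2 → F}
    (h2 : x (Sum.inr 0) = 0) (h3 : x (Sum.inr 1) = 0) : act ((𝐏).rrO ν) x = x := by
  have h0 : (𝐏).π₀ x = 0 := h2
  have h1 : (𝐏).π₁ x = 0 := h3
  rw [Pl.act_rrO, Pl.rrL_apply, h0, h1]
  simp

theorem perp_eq {z : (Fin m ⊕ Fin m) ⊕ Fin 2 → F} (h : (𝐋).Perp z) : z = wv m a b (z (Sum.inr 0)) (z (Sum.inr 1)) := by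
  funext k
  rcases k with (i | i) | i
  · have := (h i).2
    rw [pol_f] at this
    simpa [wv, minusPl, Pi.single_apply] using this
  · have := (h i).1
    rw [pol_e] at this
    simpa [wv, minusPl, Pi.single_apply] using this
  · fin_cases i <;> simp [wv, minusPl, Pi.single_apply]

theorem perp_w (y₀ y₁ : F) : (𝐋).Perp (wv m a b y₀ y₁) := fun i => ⟨e_w i y₀ y₁, f_w i y₀ y₁⟩

theorem card_index (s : ℕ) : 5 ≤ Fintype.card ((Fin (s + 3) ⊕ Fin (s + 3)) ⊕ Fin 2) := by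
  simp only [Fintype.card_sum, Fintype.card_fin]
  omega

theorem TT_congr (c : Fin m) {α β z₀ z₁ α' β' z₀' z₁' : F} (h1 : α = α') (h2 : β = β') (h3 : z₀ = z₀') (h4 : z₁ = z₁') :
    TT m a b c α β z₀ z₁ = TT m a b c α' β' z₀' z₁' := by
  subst h1 h2 h3 h4
  rfl

theorem TT_eq (c : Fin m) (α β z₀ z₁ : F) :
    TT m a b c α β z₀ z₁ = α • (𝐋).e c + β • (𝐋).f c + wv m a b z₀ z₁ := by
  simp only [TT, wv]
  abel

theorem span_of_det {e₀ e₁ f₀ f₁ : F} (hD : f₀ * e₁ - f₁ * e₀ ≠ 0) (z₀ z₁ : F) :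
    ∃ c₁ c₂ : F, wv m a b z₀ z₁ = c₁ • wv m a b f₀ f₁ + c₂ • wv m a b e₀ e₁ := by
  have hd : (f₀ * e₁ - f₁ * e₀) * (f₀ * e₁ - f₁ * e₀)⁻¹ = 1 := mul_inv_cancel₀ hD
  set d := (f₀ * e₁ - f₁ * e₀)⁻¹ with hdd
  refine ⟨(z₀ * e₁ - z₁ * e₀) * d, (f₀ * z₁ - f₁ * z₀) * d, ?_⟩
  have h1 : z₀ = (z₀ * e₁ - z₁ * e₀) * d * f₀ + (f₀ * z₁ - f₁ * z₀) * d * e₀ := by
    linear_combination (-z₀) * hd
  have h2 : z₁ = (z₀ * e₁ - z₁ * e₀) * d * f₁ + (f₀ * z₁ - f₁ * z₀) * d * e₁ := by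
    linear_combination (-z₁) * hd
  simp only [wv]
  generalize (z₀ * e₁ - z₁ * e₀) * d = C₁ at h1 h2
  generalize (f₀ * z₁ - f₁ * z₀) * d = C₂ at h1 h2
  rw [h1, h2]
  module

section Main

variable [Fintype F]

theorem exists_t (a : F) (hq : 3 ≤ Fintype.card F) : ∃ t : F, t ≠ 0 ∧ 1 - t * a ≠ 0 := by
  classical
  have h : (({0, a⁻¹} : Finset F)).card < (Finset.univ : Finset F).card := by
    refine lt_of_le_of_lt (Finset.card_le_two) ?_
    rw [Finset.card_univ]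
    omega
  obtain ⟨t, -, ht⟩ := Finset.exists_mem_notMem_of_card_lt_card h
  simp only [Finset.mem_insert, Finset.mem_singleton, not_or] at ht
  refine ⟨t, ht.1, ?_⟩
  intro h1
  apply ht.2
  have h2 : t * a = 1 := by linear_combination -h1
  exact eq_inv_of_mul_eq_one_left h2

theorem core_big {s : ℕ} (hab : ∀ z₁ z₂ : F, z₁ ^ 2 + a * z₁ * z₂ + b * z₂ ^ 2 = 0 → z₁ = 0 ∧ z₂ = 0)
    (hq : 3 ≤ Fintype.card F) :
    ∃ x y : ↥(Cfsg.isometryGroup F (⇑(minusForm (s + 3) F a b))), x ∈ Cfsg.Omega F (⇑(minusForm (s + 3) F a b)) ∧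
      y ∈ Cfsg.Omega F (⇑(minusForm (s + 3) F a b)) ∧
      Subgroup.closure {x, y} = Cfsg.Omega F (⇑(minusForm (s + 3) F a b)) := by
  haveI := fact_of_aniso hab
  have hQ := minusForm_nondegenerate (s + 3) a b hab
  obtain ⟨t, ht0, hta⟩ := exists_t a hq
  obtain ⟨eR, eD, hR1, hD1, hc1, hc2⟩ := exists_eR_eD (F := F) rfl
  obtain ⟨u, hν1, hνo, -⟩ := exists_nu (a := a) (b := b) (q := Fintype.card F) rfl
  set ν := u * u with hν
  set L := minusHF (F := F) (s + 3) a b with hL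
  set P := minusPl (F := F) (s + 3) a b with hP
  set c : Fin (s + 3) := 2 with hc
  set U := Ee (a := a) (b := b) c 0 t * Ef (a := a) (b := b) c 1 0 with hU
  set R := U * P.rrO ν * U⁻¹ with hR
  have hUinv : U⁻¹ = Ef (a := a) (b := b) c (-1) (-0) * Ee (a := a) (b := b) c (-0) (-t) := by
    rw [hU, _root_.mul_inv_rev, Ee_inv, Ef_inv]
  have hact : ∀ x, act R x = act (Ee (a := a) (b := b) c 0 t) (act (Ef (a := a) (b := b) c 1 0) (act (P.rrO ν)
      (act (Ef (a := a) (b := b) c (-1) (-0)) (act (Ee (a := a) (b := b) c (-0) (-t)) x)))) := by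
    intro x
    rw [hR, hUinv, hU]
    simp only [act_mul]
  set ν₁ := (ν.1 : KK a b).re with hν₁
  set ν₂ := (ν.1 : KK a b).im with hν₂
  have hN : ν₁ ^ 2 + a * ν₁ * ν₂ + b * ν₂ ^ 2 = 1 := by
    have h1 := mem_NormOne.1 ν.2
    rw [QuadraticAlgebra.norm_def] at h1
    linear_combination h1
  set τ := 2 - 2 * ν₁ - a * ν₂ with hτ
  have hτ0 : τ ≠ 0 := by
    intro h0
    have h1 : (ν₁ - 1) ^ 2 + a * (ν₁ - 1) * ν₂ + b * ν₂ ^ 2 = 0 := by
      rw [hτ] at h0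
      linear_combination hN + h0
    obtain ⟨h2, h3⟩ := hab _ _ h1
    apply hν1
    apply Subtype.ext
    apply Units.ext
    show ((ν.1 : KK a b)) = 1
    ext
    · show ν₁ = _
      simp
      linear_combination h2
    · show ν₂ = _
      simpa using h3
  set Q₀ := t ^ 2 * b with hQ₀
  set g₀ := ν₁ * Q₀ + b * ν₂ * t with hg₀
  set g₁ := ν₂ * Q₀ - t * (ν₁ + a * ν₂) with hg₁
  set β₂ := 1 - a * t + 2 * Q₀ - (2 * g₀ + a * g₁) with hβ₂
  obtain ⟨A₁, hRe⟩ : ∃ A, act R (L.e c) = TT (s + 3) a b c A (-τ) (1 - ν₁) (-ν₂ - τ * t) := by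
    rw [hact, e_eq, act_Ee, act_Ef, act_rr, act_Ef, act_Ee]
    exact ⟨_, TT_congr c rfl (by rw [hτ]; ring) (by ring) (by rw [hτ]; ring)⟩
  obtain ⟨A₂, hRf⟩ : ∃ A, act R (L.f c) = TT (s + 3) a b c A β₂ (g₀ - Q₀) (g₁ + β₂ * t) := by
    rw [hact, f_eq, act_Ee, act_Ef, act_rr, act_Ef, act_Ee]
    exact ⟨_, TT_congr c rfl (by rw [hβ₂, hg₀, hg₁, hQ₀]; ring) (by rw [hg₀, hQ₀]; ring)
      (by rw [hβ₂, hg₀, hg₁, hQ₀]; ring)⟩
  have hD : (1 - ν₁) * (g₁ + β₂ * t) - (-ν₂ - τ * t) * (g₀ - Q₀) = (1 - t * a) * τ * t := by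
    rw [hβ₂, hg₀, hg₁, hQ₀, hτ]
    linear_combination (t - a * t ^ 2) * hN
  have hD0 : (g₀ - Q₀) * (-ν₂ - τ * t) - (g₁ + β₂ * t) * (1 - ν₁) ≠ 0 := by
    intro h
    have h1 : (1 - t * a) * τ * t = 0 := by
      rw [← hD]
      linear_combination -h
    exact mul_ne_zero (mul_ne_zero hta hτ0) ht0 h1
  have hA₂ : A₂ ≠ 0 := by
    intro h0
    have h1 : minusForm (s + 3) F a b (act R (L.f c)) = 0 := by
      rw [Q_act, L.hf]
    rw [hRf, Q_TT, h0, zero_mul, zero_add] at h1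
    obtain ⟨h2, h3⟩ := hab _ _ h1
    apply hD0
    rw [h2, h3]
    ring
  have hfix : ∀ x : (Fin (s + 3) ⊕ Fin (s + 3)) ⊕ Fin 2 → F, x (Sum.inl (Sum.inl c)) = 0 → x (Sum.inl (Sum.inr c)) = 0 →
      x (Sum.inr 0) = 0 → x (Sum.inr 1) = 0 → act R x = x := by
    intro x h1 h2 h3 h4
    rw [hact, Ee_fix c _ _ h2 h3 h4, Ef_fix c _ _ h1 h3 h4, rr_fix _ h3 h4, Ef_fix c _ _ h1 h3 h4, Ee_fix c _ _ h2 h3 h4]
  have h02 : (0 : Fin (s + 3)) ≠ c := by
    intro h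
    have := congrArg Fin.val h
    rw [hc, Fin.val_zero, Fin.val_two] at this
    omega
  have h12 : (1 : Fin (s + 3)) ≠ c := by
    intro h
    have := congrArg Fin.val h
    rw [hc, Fin.val_one, Fin.val_two] at this
    omega
  have hE1 : Ee (a := a) (b := b) c 0 t ∈ Cfsg.Omega F (⇑(minusForm (s + 3) F a b)) :=
    eichler_mem_omega hQ (card_index s) _ _
  have hE2 : Ef (a := a) (b := b) c 1 0 ∈ Cfsg.Omega F (⇑(minusForm (s + 3) F a b)) :=
    eichler_mem_omega hQ (card_index s) _ _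
  have hRΩ : R ∈ Cfsg.Omega F (⇑(minusForm (s + 3) F a b)) :=
    mul_mem (mul_mem (mul_mem hE1 hE2) (P.rrO_mem u)) (inv_mem (mul_mem hE1 hE2))
  obtain ⟨ζ, hζ⟩ := Cfsg.Agent.Lib.PresSL.SL2Data.exists_gen_unit (F := F)
  refine two_gen_core L hQ (card_index s) R hRΩ ?_ ?_ ?_ ?_
    (eR := eR) (eD := eD) (p := ringChar F) ?_ (ringChar.Nat.cast_ringChar) hc1 hc2 ζ hζ ?_
    (α := A₂) (β := β₂) (w₁ := wv (s + 3) a b (g₀ - Q₀) (g₁ + β₂ * t))
    (α' := A₁) (β' := -τ) (w₂ := wv (s + 3) a b (1 - ν₁) (-ν₂ - τ * t))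
    ?_ ?_ (perp_w _ _) (perp_w _ _) hA₂ (neg_ne_zero.2 hτ0) ?_
  · apply hfix <;> simp [hL, minusHF, Pi.single_apply, h02]
  · apply hfix <;> simp [hL, minusHF, Pi.single_apply, h12]
  · apply hfix <;> simp [hL, minusHF, Pi.single_apply, h02]
  · apply hfix <;> simp [hL, minusHF, Pi.single_apply, h12]
  · rw [hR, conj_pow, ← map_pow, hνo _ hR1, map_one, mul_one, mul_inv_cancel]
  · rw [← pow_mul]
    have h1 : ζ ^ (Fintype.card F - 1) = 1 := by
      apply Units.ext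
      simpa using FiniteField.pow_card_sub_one_eq_one (ζ : F) ζ.ne_zero
    obtain ⟨k, hk⟩ := hD1
    rw [hk, pow_mul, h1, one_pow]
  · rw [hRf, TT_eq]
  · rw [hRe, TT_eq]
  · intro z hz
    rw [perp_eq hz]
    exact span_of_det hD0 _ _

theorem core_two {s : ℕ} (hab : ∀ z₁ z₂ : F, z₁ ^ 2 + a * z₁ * z₂ + b * z₂ ^ 2 = 0 → z₁ = 0 ∧ z₂ = 0)
    (hq : Fintype.card F = 2) :
    ∃ x y : ↥(Cfsg.isometryGroup F (⇑(minusForm (s + 3) F a b))), x ∈ Cfsg.Omega F (⇑(minusForm (s + 3) F a b)) ∧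
      y ∈ Cfsg.Omega F (⇑(minusForm (s + 3) F a b)) ∧
      Subgroup.closure {x, y} = Cfsg.Omega F (⇑(minusForm (s + 3) F a b)) := by
  have hQ := minusForm_nondegenerate (s + 3) a b hab
  have h2 : (2 : F) = 0 := by
    have := FiniteField.cast_card_eq_zero F
    rw [hq] at this
    exact_mod_cast this
  have hall : ∀ x : F, x = 0 ∨ x = 1 := by
    intro x
    have h1 := FiniteField.pow_card x
    rw [hq] at h1
    have h3 : x * (x - 1) = 0 := by linear_combination h1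
    rcases mul_eq_zero.1 h3 with h | h
    · exact Or.inl h
    · exact Or.inr (sub_eq_zero.1 h)
  have hb : b = 1 := by
    rcases hall b with h | h
    · exfalso
      have := (hab 0 1 (by rw [h]; ring)).2
      exact one_ne_zero this
    · exact h
  have ha : a = 1 := by
    rcases hall a with h | h
    · exfalso
      have := (hab 1 1 (by rw [h, hb]; linear_combination h2)).2
      exact one_ne_zero this
    · exact h
  subst ha hb
  set L := minusHF (F := F) (s + 3) 1 1 with hL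
  set c : Fin (s + 3) := 2 with hc
  set R := Ee (a := (1:F)) (b := (1:F)) c 1 0 * Ef (a := (1:F)) (b := (1:F)) c 0 1 with hR
  have hact : ∀ α β z₀ z₁ : F, act R (TT (s + 3) (1:F) (1:F) c α β z₀ z₁) =
      TT (s + 3) (1:F) (1:F) c (α + β + z₀ + z₁) (α + β + z₀) (α + β) (α + z₁) := by
    intro α β z₀ z₁
    rw [hR, act_mul, act_Ef, act_Ee]
    refine TT_congr c ?_ ?_ ?_ ?_
    · linear_combination (-β - z₀) * h2
    · linear_combination (-z₀ - z₁ - α) * h2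
    · linear_combination (-z₁ - α) * h2
    · ring
  have hfix : ∀ x : (Fin (s + 3) ⊕ Fin (s + 3)) ⊕ Fin 2 → F, x (Sum.inl (Sum.inl c)) = 0 → x (Sum.inl (Sum.inr c)) = 0 →
      x (Sum.inr 0) = 0 → x (Sum.inr 1) = 0 → act R x = x := by
    intro x h1 h2 h3 h4
    rw [hR, act_mul, Ef_fix c _ _ h1 h3 h4, Ee_fix c _ _ h2 h3 h4]
  have hdec : ∀ x : (Fin (s + 3) ⊕ Fin (s + 3)) ⊕ Fin 2 → F, ∃ x₀ : (Fin (s + 3) ⊕ Fin (s + 3)) ⊕ Fin 2 → F,
      act R x₀ = x₀ ∧ x = x₀ + TT (s + 3) (1:F) (1:F) c (x (Sum.inl (Sum.inl c))) (x (Sum.inl (Sum.inr c))) (x (Sum.inr 0)) (x (Sum.inr 1)) := by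
    intro x
    refine ⟨x - TT (s + 3) (1:F) (1:F) c (x (Sum.inl (Sum.inl c))) (x (Sum.inl (Sum.inr c))) (x (Sum.inr 0)) (x (Sum.inr 1)), ?_, by simp⟩
    apply hfix
    · rw [Pi.sub_apply, TT_ll, sub_self]
    · rw [Pi.sub_apply, TT_lr, sub_self]
    · rw [Pi.sub_apply, TT_r0, sub_self]
    · rw [Pi.sub_apply, TT_r1, sub_self]
  have hRo : R ^ 5 = 1 := by
    apply ext_act
    intro x
    obtain ⟨x₀, hx₀, hx⟩ := hdec x
    rw [act_one]
    conv_lhs => rw [hx]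
    conv_rhs => rw [hx]
    generalize x (Sum.inl (Sum.inl c)) = α
    generalize x (Sum.inl (Sum.inr c)) = β
    generalize x (Sum.inr 0) = z₀
    generalize x (Sum.inr 1) = z₁
    simp only [pow_succ, pow_zero, one_mul, act_mul, act_add, hx₀, hact]
    congr 1
    refine TT_congr c ?_ ?_ ?_ ?_
    · linear_combination (48 * α + 40 * β + 30 * z₀ + 25 * z₁) * h2
    · linear_combination (40 * α + 33 * β + 25 * z₀ + 20 * z₁) * h2
    · linear_combination (30 * α + 25 * β + 18 * z₀ + 15 * z₁) * h2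
    · linear_combination (25 * α + 20 * β + 15 * z₀ + 13 * z₁) * h2
  have h02 : (0 : Fin (s + 3)) ≠ c := by
    intro h
    have := congrArg Fin.val h
    rw [hc, Fin.val_zero, Fin.val_two] at this
    omega
  have h12 : (1 : Fin (s + 3)) ≠ c := by
    intro h
    have := congrArg Fin.val h
    rw [hc, Fin.val_one, Fin.val_two] at this
    omega
  have hRΩ : R ∈ Cfsg.Omega F (⇑(minusForm (s + 3) F 1 1)) :=
    mul_mem (eichler_mem_omega hQ (card_index s) _ _) (eichler_mem_omega hQ (card_index s) _ _)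
  obtain ⟨ζ, hζ⟩ := Cfsg.Agent.Lib.PresSL.SL2Data.exists_gen_unit (F := F)
  refine two_gen_core L hQ (card_index s) R hRΩ ?_ ?_ ?_ ?_
    (eR := 5) (eD := 1) (p := 2) hRo (by exact_mod_cast h2) (by decide) (by decide) ζ hζ ?_
    (α := 1) (β := 1) (w₁ := wv (s + 3) (1:F) (1:F) 1 0)
    (α' := 1) (β' := 1) (w₂ := wv (s + 3) (1:F) (1:F) 1 1)
    ?_ ?_ (perp_w _ _) (perp_w _ _) one_ne_zero one_ne_zero ?_
  · apply hfix <;> simp [hL, minusHF, Pi.single_apply, h02]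
  · apply hfix <;> simp [hL, minusHF, Pi.single_apply, h12]
  · apply hfix <;> simp [hL, minusHF, Pi.single_apply, h02]
  · apply hfix <;> simp [hL, minusHF, Pi.single_apply, h12]
  · have h4 : ζ ^ (Fintype.card F - 1) = 1 := by
      apply Units.ext
      simpa using FiniteField.pow_card_sub_one_eq_one (ζ : F) ζ.ne_zero
    rw [hq] at h4
    rw [pow_one, pow_two]
    simp only [Nat.reduceSub, pow_one] at h4
    rw [h4, mul_one]
  · have h1 := hact 0 1 0 0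
    rw [← f_eq] at h1
    rw [h1, ← TT_eq]
    refine TT_congr c ?_ ?_ ?_ ?_ <;> ring
  · have h1 := hact 1 0 0 0
    rw [← e_eq] at h1
    rw [h1, ← TT_eq]
    refine TT_congr c ?_ ?_ ?_ ?_ <;> ring
  · intro z hz
    rw [perp_eq hz]
    exact span_of_det (by simp) _ _

/-- `PΩ⁻_{2m}(q)` is generated by two elements. -/
theorem pomega_minus_two_gen (m : ℕ) (hm : 4 ≤ m) (a b : F)
    (hab : ∀ z₁ z₂ : F, z₁ ^ 2 + a * z₁ * z₂ + b * z₂ ^ 2 = 0 → z₁ = 0 ∧ z₂ = 0) :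
    ∃ g h : Cfsg.POmega F (Cfsg.quadFormMinus (m - 1) F a b), Subgroup.closure {g, h} = ⊤ := by
  obtain ⟨s, rfl⟩ : ∃ s, m = s + 4 := ⟨m - 4, by omega⟩
  have h := pomega_of_core (Q := ⇑(minusForm (s + 3) F a b)) (by
    by_cases hq : Fintype.card F = 2
    · exact core_two hab hq
    · have : 1 < Fintype.card F := Fintype.one_lt_card
      exact core_big hab (by omega))
  rw [coe_minusForm] at h
  exact h

end Main

end Cfsg.Agent.Lib.PresOm.TwoGenMinus
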