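import Mathlib
import Cfsg.Agent.Lib.PresOm.PlaneRot
import Cfsg.Agent.Lib.Classical.Orth.Models
import Cfsg.Agent.Lib.PresSp.Gen2C
import Cfsg.Agent.S0301

/-!
# `PΩ_{2m+1}(q)` is generated by two elements
-/

set_option autoImplicit false
set_option linter.unusedSectionVars false
set_option linter.unusedSimpArgs false
set_option linter.unusedVariables false

namespace Cfsg.Agent.Lib.PresOm.TwoGenOdd

open Matrix QuadraticMap Module
open scoped MatrixGroups commutatorElement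
open QuadraticAlgebra
open Cfsg.Agent.Lib.Classical.Orth.Basic
open Cfsg.Agent.Lib.Classical.Orth.Models
open Cfsg.Agent.Lib.Classical.Orth.Siegel
open Cfsg.Agent.Lib.Classical.Orth.Generation
open Cfsg.Agent.Lib.Linalg.BinaryAniso
open Cfsg.Agent.Lib.PresOm.TwoGenQ
open Cfsg.Agent.Lib.PresOm.PlaneRot

variable {F : Type*} [Field F] {m : ℕ}

/-- The hyperbolic family of the odd form. -/
noncomputable def oddHF (m : ℕ) (F : Type*) [Field F] : HF (oddForm m F) m where
  e i := Pi.single (Sum.inr (Sum.inl i)) 1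
  f i := Pi.single (Sum.inr (Sum.inr i)) 1
  he i := by
    rw [coe_oddForm_apply]
    simp [Cfsg.quadFormOdd, Pi.single_apply]
  hf i := by
    rw [coe_oddForm_apply]
    simp [Cfsg.quadFormOdd, Pi.single_apply]
  hee i j := by
    rw [coe_oddForm, polar_odd_single_inl]
    simp [Pi.single_apply]
  hff i j := by
    rw [coe_oddForm, polar_odd_single_inr]
    simp [Pi.single_apply]
  hef i j := by
    rw [coe_oddForm, polar_odd_single_inl]
    simp [Pi.single_apply, eq_comm]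

theorem pol_e (i : Fin m) (x : Unit ⊕ (Fin m ⊕ Fin m) → F) :
    polar (⇑(oddForm m F)) ((oddHF m F).e i) x = x (Sum.inr (Sum.inr i)) := by
  rw [coe_oddForm]
  exact polar_odd_single_inl m i x

theorem pol_f (i : Fin m) (x : Unit ⊕ (Fin m ⊕ Fin m) → F) :
    polar (⇑(oddForm m F)) ((oddHF m F).f i) x = x (Sum.inr (Sum.inl i)) := by
  rw [coe_oddForm]
  exact polar_odd_single_inr m i x

/-- The anisotropic vector. -/
noncomputable def eps (m : ℕ) (F : Type*) [Field F] : Unit ⊕ (Fin m ⊕ Fin m) → F := Pi.single (Sum.inl ()) 1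

theorem pol_eps (x : Unit ⊕ (Fin m ⊕ Fin m) → F) :
    polar (⇑(oddForm m F)) (eps m F) x = 2 * x (Sum.inl ()) := by
  rw [coe_oddForm]
  exact polar_odd_single_unit m x

theorem Q_eps : oddForm m F (eps m F) = 1 := by
  rw [coe_oddForm_apply]
  simp [Cfsg.quadFormOdd, Pi.single_apply, eps]

theorem perp_eps : (oddHF m F).Perp (eps m F) := by
  intro i
  rw [pol_e, pol_f]
  simp [eps, Pi.single_apply]

theorem perp_iff {z : Unit ⊕ (Fin m ⊕ Fin m) → F} (h : (oddHF m F).Perp z) : z = z (Sum.inl ()) • eps m F := by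
  funext k
  rcases k with ⟨⟩ | (i | i)
  · simp [eps]
  · have := (h i).2
    rw [pol_f] at this
    simpa [eps, Pi.single_apply] using this
  · have := (h i).1
    rw [pol_e] at this
    simpa [eps, Pi.single_apply] using this

theorem card_index (s : ℕ) : 5 ≤ Fintype.card (Unit ⊕ (Fin (s + 3) ⊕ Fin (s + 3))) := by
  simp only [Fintype.card_sum, Fintype.card_unit, Fintype.card_fin]
  omega

/-- The anisotropic plane through index `c`. -/
noncomputable def oddPl (h2 : (2 : F) ≠ 0) {δ : F} (hδ : δ ≠ 0) (c : Fin m) : Pl (oddForm m F) 0 (-δ) where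
  p₀ := eps m F
  p₁ := (oddHF m F).e c - δ • (oddHF m F).f c
  π₀ := LinearMap.proj (Sum.inl ())
  π₁ := (-(2 * δ)⁻¹) • (LinearMap.proj (Sum.inr (Sum.inr c)) - δ • LinearMap.proj (Sum.inr (Sum.inl c)))
  h00 := by simp [eps]
  h01 := by simp [oddHF, Pi.single_apply]
  h10 := by simp [eps, Pi.single_apply]
  h11 := by
    simp [oddHF, Pi.single_apply]
    field_simp
    ring
  Q0 := Q_eps
  Q1 := by
    rw [Q_sub, Q_smul, (oddHF m F).he, (oddHF m F).hf, polar_smul_right', (oddHF m F).hef]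
    simp
  pol0 x := by
    rw [pol_eps]
    simp
  pol1 x := by
    rw [polar_sub_left, polar_smul_left', pol_e, pol_f]
    simp
    field_simp

section Main

variable [Fintype F]

theorem core_big {s : ℕ} (hodd : Odd (Fintype.card F)) (hq : Fintype.card F ≠ 3) :
    ∃ a b : ↥(Cfsg.isometryGroup F (⇑(oddForm (s + 3) F))), a ∈ Cfsg.Omega F (⇑(oddForm (s + 3) F)) ∧
      b ∈ Cfsg.Omega F (⇑(oddForm (s + 3) F)) ∧ Subgroup.closure {a, b} = Cfsg.Omega F (⇑(oddForm (s + 3) F)) := by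
  have h2 : (2 : F) ≠ 0 := Cfsg.Agent.Lib.Classical.Geo.OPts.two_ne_zero_of_odd hodd
  have hc : ringChar F ≠ 2 := by
    intro h
    have := FiniteField.even_card_iff_char_two.1 h
    rcases hodd with ⟨t, ht⟩
    omega
  obtain ⟨δ, hδs⟩ := FiniteField.exists_nonsquare hc
  have hδ : δ ≠ 0 := fun h => hδs (h ▸ IsSquare.zero)
  have hab : ∀ z₁ z₂ : F, z₁ ^ 2 + 0 * z₁ * z₂ + (-δ) * z₂ ^ 2 = 0 → z₁ = 0 ∧ z₂ = 0 := by
    intro z₁ z₂ h
    by_cases hz : z₂ = 0
    · subst hz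
      simp at h
      exact ⟨h, rfl⟩
    · exfalso
      apply hδs
      refine ⟨z₁ / z₂, ?_⟩
      field_simp
      linear_combination -h
  haveI := fact_of_aniso hab
  obtain ⟨eR, eD, hR1, hD1, hc1, hc2⟩ := exists_eR_eD (F := F) rfl
  obtain ⟨u, hν1, hνo, hν2⟩ := exists_nu (a := 0) (b := -δ) (q := Fintype.card F) rfl
  set ν := u * u with hν
  set L := oddHF (s + 3) F with hL
  set P := oddPl h2 hδ (2 : Fin (s + 3)) with hP
  set z : KK 0 (-δ) := (ν.1 : KK 0 (-δ)) with hz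
  have hN : z.re ^ 2 - δ * z.im ^ 2 = 1 := by
    have h1 := mem_NormOne.1 ν.2
    rw [QuadraticAlgebra.norm_def] at h1
    rw [← hz] at h1
    linear_combination h1
  have him : z.im ≠ 0 := by
    intro h0
    apply hν2 hq
    apply Subtype.ext
    apply Units.ext
    show z * z = 1
    rw [h0] at hN
    ext
    · simp [h0]
      linear_combination hN
    · simp [h0]
  have hre : z.re ≠ 1 := by
    intro h0
    rw [h0] at hN
    have : δ * z.im ^ 2 = 0 := by linear_combination -hN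
    rcases mul_eq_zero.1 this with h | h
    · exact hδ h
    · exact him (pow_eq_zero_iff (two_ne_zero) |>.1 h)
  have h02 : (0 : Fin (s + 3)) ≠ 2 := by
    intro h
    have := congrArg Fin.val h
    rw [Fin.val_zero, Fin.val_two] at this
    omega
  have h12 : (1 : Fin (s + 3)) ≠ 2 := by
    intro h
    have := congrArg Fin.val h
    rw [Fin.val_one, Fin.val_two] at this
    omega
  have hfix : ∀ x, P.π₀ x = 0 → P.π₁ x = 0 → act (P.rrO ν) x = x := by
    intro x h0 h1
    rw [P.act_rrO, P.rrL_apply, h0, h1]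
    simp
  have hacte : ∀ i : Fin (s + 3), i ≠ 2 → P.π₀ (L.e i) = 0 ∧ P.π₁ (L.e i) = 0 := by
    intro i hi
    constructor
    · simp [hP, oddPl, hL, oddHF, Pi.single_apply]
    · simp [hP, oddPl, hL, oddHF, Pi.single_apply, hi]
  have hactf : ∀ i : Fin (s + 3), i ≠ 2 → P.π₀ (L.f i) = 0 ∧ P.π₁ (L.f i) = 0 := by
    intro i hi
    constructor
    · simp [hP, oddPl, hL, oddHF, Pi.single_apply]
    · simp [hP, oddPl, hL, oddHF, Pi.single_apply, hi]
  have hact2 : ∀ x, P.π₀ x = 0 → act (P.rrO ν) x =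
      x + (δ * z.im * P.π₁ x) • eps (s + 3) F + ((z.re - 1) * P.π₁ x) • (L.e 2 - δ • L.f 2) := by
    intro x h0
    rw [P.act_rrO, P.rrL_apply, h0]
    show x + ((z.re - 1) * 0 - (-δ) * z.im * P.π₁ x) • eps (s + 3) F +
      (z.im * 0 + (z.re + 0 * z.im - 1) * P.π₁ x) • (L.e 2 - δ • L.f 2) = _
    module
  have hY1 : P.π₁ (L.f 2) = -(2 * δ)⁻¹ := by
    simp [hP, oddPl, hL, oddHF, Pi.single_apply]
  have hY2 : P.π₁ (L.e 2) = 2⁻¹ := by
    simp [hP, oddPl, hL, oddHF, Pi.single_apply]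
    field_simp
  have hπf : P.π₀ (L.f 2) = 0 := by simp [hP, oddPl, hL, oddHF, Pi.single_apply]
  have hπe : P.π₀ (L.e 2) = 0 := by simp [hP, oddPl, hL, oddHF, Pi.single_apply]
  set Y₁ := P.π₁ (L.f 2) with hY₁
  set Y₂ := P.π₁ (L.e 2) with hY₂
  have hY₁0 : Y₁ ≠ 0 := by
    rw [hY1]
    exact neg_ne_zero.2 (inv_ne_zero (mul_ne_zero h2 hδ))
  have hY₂0 : Y₂ ≠ 0 := by
    rw [hY2]
    exact inv_ne_zero h2
  obtain ⟨ζ, hζ⟩ := Cfsg.Agent.Lib.PresSL.SL2Data.exists_gen_unit (F := F)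
  refine two_gen_core L (oddForm_nondegenerate h2 _) (card_index s) (P.rrO ν) (P.rrO_mem u)
    (hfix _ (hacte 0 h02).1 (hacte 0 h02).2) (hfix _ (hacte 1 h12).1 (hacte 1 h12).2)
    (hfix _ (hactf 0 h02).1 (hactf 0 h02).2) (hfix _ (hactf 1 h12).1 (hactf 1 h12).2)
    (eR := eR) (eD := eD) (p := ringChar F) ?_ (ringChar.Nat.cast_ringChar) hc1 hc2 ζ hζ ?_
    (α := (z.re - 1) * Y₁) (β := 1 - δ * ((z.re - 1) * Y₁)) (w₁ := (δ * z.im * Y₁) • eps (s + 3) F)
    (α' := 1 + (z.re - 1) * Y₂) (β' := -δ * ((z.re - 1) * Y₂)) (w₂ := (δ * z.im * Y₂) • eps (s + 3) F)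
    ?_ ?_ ?_ ?_ ?_ ?_ ?_
  · rw [← map_pow, hνo _ hR1, map_one]
  · rw [← pow_mul]
    have h1 : ζ ^ (Fintype.card F - 1) = 1 := by
      apply Units.ext
      simpa using FiniteField.pow_card_sub_one_eq_one (ζ : F) ζ.ne_zero
    obtain ⟨k, hk⟩ := hD1
    rw [hk, pow_mul, h1, one_pow]
  · rw [hact2 _ hπf]
    module
  · rw [hact2 _ hπe]
    module
  · intro i
    have := perp_eps (m := s + 3) (F := F) i
    rw [polar_smul_right', polar_smul_right', this.1, this.2]
    simp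
  · intro i
    have := perp_eps (m := s + 3) (F := F) i
    rw [polar_smul_right', polar_smul_right', this.1, this.2]
    simp
  · exact mul_ne_zero (sub_ne_zero.2 hre) hY₁0
  · exact mul_ne_zero (neg_ne_zero.2 hδ) (mul_ne_zero (sub_ne_zero.2 hre) hY₂0)
  · intro w hw
    refine ⟨w (Sum.inl ()) * (δ * z.im * Y₁)⁻¹, 0, ?_⟩
    have hne : δ * z.im * Y₁ ≠ 0 := mul_ne_zero (mul_ne_zero hδ him) hY₁0
    rw [zero_smul, add_zero, smul_smul, inv_mul_cancel_right₀ hne]
    exact perp_iff hw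

theorem core_three {s : ℕ} (hq : Fintype.card F = 3) :
    ∃ a b : ↥(Cfsg.isometryGroup F (⇑(oddForm (s + 3) F))), a ∈ Cfsg.Omega F (⇑(oddForm (s + 3) F)) ∧
      b ∈ Cfsg.Omega F (⇑(oddForm (s + 3) F)) ∧ Subgroup.closure {a, b} = Cfsg.Omega F (⇑(oddForm (s + 3) F)) := by
  have h3 : (3 : F) = 0 := by
    have := FiniteField.cast_card_eq_zero F
    rw [hq] at this
    exact_mod_cast this
  have h2 : (2 : F) ≠ 0 := Cfsg.Agent.Lib.Classical.Geo.OPts.two_ne_zero_of_odd (by rw [hq]; decide)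
  have hQε : oddForm (s + 3) F (-eps (s + 3) F) = 1 := by
    rw [QuadraticMap.map_neg, Q_eps]
  set L := oddHF (s + 3) F with hL
  set e := L.e 2 with he
  set f := L.f 2 with hf
  set ε := eps (s + 3) F with hε
  have hεe : polar (⇑(oddForm (s + 3) F)) e ε = 0 := (perp_eps (2 : Fin (s + 3))).1
  have hεf : polar (⇑(oddForm (s + 3) F)) f (-ε) = 0 := by
    rw [polar_neg_right, (perp_eps (2 : Fin (s + 3))).2, neg_zero]
  set E₁ := eichlerIso (L.he 2) hεe with hE₁
  set E₂ := eichlerIso (L.hf 2) hεf with hE₂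
  set R := E₁ * E₂ with hR
  have hX : ∀ (x : Unit ⊕ (Fin (s + 3) ⊕ Fin (s + 3)) → F) (a b c : F),
      (x + a • e + b • f + c • ε) (Sum.inr (Sum.inl 2)) = x (Sum.inr (Sum.inl 2)) + a := by
    intro x a b c
    simp [he, hf, hε, hL, oddHF, eps, Pi.single_apply]
  have hY : ∀ (x : Unit ⊕ (Fin (s + 3) ⊕ Fin (s + 3)) → F) (a b c : F),
      (x + a • e + b • f + c • ε) (Sum.inr (Sum.inr 2)) = x (Sum.inr (Sum.inr 2)) + b := by
    intro x a b c
    simp [he, hf, hε, hL, oddHF, eps, Pi.single_apply]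
  have hZ : ∀ (x : Unit ⊕ (Fin (s + 3) ⊕ Fin (s + 3)) → F) (a b c : F),
      (x + a • e + b • f + c • ε) (Sum.inl ()) = x (Sum.inl ()) + c := by
    intro x a b c
    simp [he, hf, hε, hL, oddHF, eps, Pi.single_apply]
  have hact : ∀ x, act R x = x + (-x (Sum.inr (Sum.inr 2)) - x (Sum.inl ())) • e +
      (-x (Sum.inr (Sum.inl 2)) - x (Sum.inl ())) • f +
      (x (Sum.inr (Sum.inl 2)) + x (Sum.inr (Sum.inr 2)) - x (Sum.inl ())) • ε := by
    intro x
    set X := x (Sum.inr (Sum.inl 2)) with hXd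
    set Y := x (Sum.inr (Sum.inr 2)) with hYd
    set Z := x (Sum.inl ()) with hZd
    have e1 : act E₂ x = x + (0 : F) • e + (2 * Z - X) • f + (-X) • ε := by
      rw [hE₂, act_eichlerIso, hQε, pol_f, polar_neg_left, pol_eps]
      module
    have e2 : ∀ y, act E₁ y = y + (-(2 * y (Sum.inl ())) - y (Sum.inr (Sum.inr 2))) • e + (0 : F) • f +
        (y (Sum.inr (Sum.inr 2))) • ε := by
      intro y
      rw [hE₁, act_eichlerIso, Q_eps, pol_e, pol_eps]
      module
    rw [hR, act_mul, e1, e2, hY, hZ]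
    have c1 : 0 + (-(2 * (Z + -X)) - (Y + (2 * Z - X))) = -Y - Z := by
      linear_combination (X - Z) * h3
    have c2 : (2 * Z - X) + 0 = -X - Z := by
      linear_combination Z * h3
    have c3 : -X + (Y + (2 * Z - X)) = X + Y - Z := by
      linear_combination (Z - X) * h3
    rw [← c1, ← c2, ← c3]
    module
  have hRsq : R ^ 2 = 1 := by
    apply ext_act
    intro x
    rw [pow_two, act_mul, act_one, hact, hact, hX, hY, hZ]
    set X := x (Sum.inr (Sum.inl 2)) with hXd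
    set Y := x (Sum.inr (Sum.inr 2)) with hYd
    set Z := x (Sum.inl ()) with hZd
    have : ∀ v : Unit ⊕ (Fin (s + 3) ⊕ Fin (s + 3)) → F, v = x + (3 * (-Y)) • e + (3 * (-X)) • f + (3 * (-Z)) • ε → v = x := by
      intro v hv
      rw [hv, h3]
      simp
    apply this
    module
  have h0 : (0 : Fin (s + 3)) ≠ 2 := by
    intro h
    have := congrArg Fin.val h
    rw [Fin.val_zero, Fin.val_two] at this
    omega
  have h1 : (1 : Fin (s + 3)) ≠ 2 := by
    intro h
    have := congrArg Fin.val h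
    rw [Fin.val_one, Fin.val_two] at this
    omega
  have hfix : ∀ x, x (Sum.inr (Sum.inl 2)) = 0 → x (Sum.inr (Sum.inr 2)) = 0 → x (Sum.inl ()) = 0 → act R x = x := by
    intro x h1 h2 h3
    rw [hact, h1, h2, h3]
    simp
  have hRΩ : R ∈ Cfsg.Omega F (⇑(oddForm (s + 3) F)) :=
    mul_mem (eichler_mem_omega (oddForm_nondegenerate h2 _) (card_index s) _ _)
      (eichler_mem_omega (oddForm_nondegenerate h2 _) (card_index s) _ _)
  obtain ⟨ζ, hζ⟩ := Cfsg.Agent.Lib.PresSL.SL2Data.exists_gen_unit (F := F)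
  refine two_gen_core L (oddForm_nondegenerate h2 _) (card_index s) R hRΩ ?_ ?_ ?_ ?_
    (eR := 2) (eD := 1) (p := 3) hRsq (by exact_mod_cast h3) (by decide) (by decide) ζ hζ ?_
    (α := -1) (β := 1) (w₁ := ε) (α' := 1) (β' := -1) (w₂ := ε) ?_ ?_ perp_eps perp_eps
    (neg_ne_zero.2 one_ne_zero) (neg_ne_zero.2 one_ne_zero) ?_
  · apply hfix <;> simp [hL, oddHF, Pi.single_apply, h0]
  · apply hfix <;> simp [hL, oddHF, Pi.single_apply, h1]
  · apply hfix <;> simp [hL, oddHF, Pi.single_apply, h0]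
  · apply hfix <;> simp [hL, oddHF, Pi.single_apply, h1]
  · have h4 : ζ ^ (Fintype.card F - 1) = 1 := by
      apply Units.ext
      simpa using FiniteField.pow_card_sub_one_eq_one (ζ : F) ζ.ne_zero
    rw [hq] at h4
    rw [pow_one]
    exact h4
  · rw [hact]
    have e1 : f (Sum.inr (Sum.inr 2)) = 1 := by simp [hf, hL, oddHF]
    have e2 : f (Sum.inr (Sum.inl 2)) = 0 := by simp [hf, hL, oddHF, Pi.single_apply]
    have e3 : f (Sum.inl ()) = 0 := by simp [hf, hL, oddHF, Pi.single_apply]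
    change f + (-f (Sum.inr (Sum.inr 2)) - f (Sum.inl ())) • e + (-f (Sum.inr (Sum.inl 2)) - f (Sum.inl ())) • f +
      (f (Sum.inr (Sum.inl 2)) + f (Sum.inr (Sum.inr 2)) - f (Sum.inl ())) • ε = (-1 : F) • e + (1 : F) • f + ε
    rw [e1, e2, e3]
    module
  · rw [hact]
    have e1 : e (Sum.inr (Sum.inl 2)) = 1 := by simp [he, hL, oddHF]
    have e2 : e (Sum.inr (Sum.inr 2)) = 0 := by simp [he, hL, oddHF, Pi.single_apply]
    have e3 : e (Sum.inl ()) = 0 := by simp [he, hL, oddHF, Pi.single_apply]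
    change e + (-e (Sum.inr (Sum.inr 2)) - e (Sum.inl ())) • e + (-e (Sum.inr (Sum.inl 2)) - e (Sum.inl ())) • f +
      (e (Sum.inr (Sum.inl 2)) + e (Sum.inr (Sum.inr 2)) - e (Sum.inl ())) • ε = (1 : F) • e + (-1 : F) • f + ε
    rw [e1, e2, e3]
    module
  · intro z hz
    refine ⟨z (Sum.inl ()), 0, ?_⟩
    rw [zero_smul, add_zero]
    exact perp_iff hz

/-- `PΩ_{2m+1}(q)` is generated by two elements. -/
theorem pomega_odd_two_gen (hodd : Odd (Fintype.card F)) (m : ℕ) (hm : 2 ≤ m) :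
    ∃ a b : Cfsg.POmega F (Cfsg.quadFormOdd m F), Subgroup.closure {a, b} = ⊤ := by
  rcases eq_or_lt_of_le hm with rfl | h3
  · obtain ⟨E⟩ := Cfsg.Agent.S0301.result hodd
    obtain ⟨x, y, hxy⟩ := Cfsg.Agent.Lib.PresSp.psp_two_gen (F := F) 2 le_rfl (by
      rintro ⟨-, h⟩
      rw [h] at hodd
      exact absurd hodd (by decide))
    refine ⟨E.symm x, E.symm y, ?_⟩
    have h1 := MonoidHom.map_closure E.symm.toMonoidHom ({x, y} : Set _)
    rw [hxy, Set.image_pair] at h1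
    have h2 : Subgroup.closure {E.symm x, E.symm y} = (⊤ : Subgroup (Cfsg.POmega F (Cfsg.quadFormOdd 2 F))) := by
      refine Eq.trans h1.symm ?_
      exact Subgroup.map_top_of_surjective _ E.symm.surjective
    exact h2
  · obtain ⟨s, rfl⟩ : ∃ s, m = s + 3 := ⟨m - 3, by omega⟩
    have h := pomega_of_core (Q := ⇑(oddForm (s + 3) F)) (by
      by_cases hq : Fintype.card F = 3
      · exact core_three hq
      · exact core_big hodd hq)
    rwa [coe_oddForm] at h

end Main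

end Cfsg.Agent.Lib.PresOm.TwoGenOdd
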